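import Cfsg.Agent.Lib.SFourFree.Minimal
import Cfsg.Agent.Lib.Balance.Locals
import Mathlib.GroupTheory.Nilpotent

/-!
# Subgroups of characteristic two containing `S` normalize `W`

`le_normalizer_of_sq`, `mem_centralizer_mul_normalizer` (Thompson factorization) and
`exists_normal_functor`.

Owner: helper65.
-/

set_option autoImplicit false

namespace Cfsg.Agent.Lib.SFourFree

open Subgroup PLocal

variable {G : Type*} [Group G] [Finite G]

theorem c2_of_le {U' U : Subgroup G} (hle : U' ≤ U) (S : Sylow 2 G) (hS : (S : Subgroup G) ≤ U')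
    (hc : Subgroup.centralizer (Cfsg.pCore 2 U : Set U) ≤ Cfsg.pCore 2 U) :
    Subgroup.centralizer (Cfsg.pCore 2 U' : Set U') ≤ Cfsg.pCore 2 U' := by
  have : Fact (Nat.Prime 2) := ⟨Nat.prime_two⟩
  let f := Subgroup.inclusion hle
  have hQS : ∀ x : U, x ∈ Cfsg.pCore 2 U → (x : G) ∈ (S : Subgroup G) := fun x hx =>
    Cores.pCore_le_sylow (S.subtype (hS.trans hle)) hx
  have hN : (Cfsg.pCore 2 U).comap f ≤ Cfsg.pCore 2 U' := by
    refine Cores.le_pCore ?_
    exact (Cores.pCore_isPGroup 2).comap_of_injective _ (Subgroup.inclusion_injective hle)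
  intro x hx
  refine hN (hc (Subgroup.mem_centralizer_iff.mpr fun y hy => ?_))
  have hy' : (⟨y, hS (hQS y hy)⟩ : U') ∈ Cfsg.pCore 2 U' := hN (by
    show f _ ∈ Cfsg.pCore 2 U
    rw [show f ⟨y, hS (hQS y hy)⟩ = y from Subtype.ext rfl]
    exact hy)
  exact Subtype.ext (congrArg (fun t : U' => (t : G)) (Subgroup.mem_centralizer_iff.mp hx _ hy'))

/-- Every solvable `Sym(4)`-free subgroup of characteristic two containing `S` normalizes `W`. -/
theorem le_normalizer_of_sq (S : Sylow 2 G) (W : Subgroup G)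
    (hel : Cfsg.IsElementaryAbelian 2 W) (hW : W ≤ (S : Subgroup G))
    (hn : (S : Subgroup G) ≤ Subgroup.normalizer (W : Set G))
    (hsq : ∀ R : Subgroup G, R ≤ (S : Subgroup G) →
      (∀ a ∈ R, ∀ b ∈ R, a * b * a⁻¹ * b⁻¹ ∈ Subgroup.centralizer (W : Set G)) →
      (∀ a ∈ R, a * a ∈ Subgroup.centralizer (W : Set G)) → Sq W R)
    (hJ : Subgroup.normalizer (Cfsg.thompsonSubgroupOf 2 (S : Subgroup G) : Set G) ≤
      Subgroup.normalizer (W : Set G))
    (U : Subgroup G) (hSU : (S : Subgroup G) ≤ U) (hs4 : ¬ Cfsg.Involves (Equiv.Perm (Fin 4)) U)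
    (hsolv : Group.IsSolvable U)
    (hc : Subgroup.centralizer (Cfsg.pCore 2 U : Set U) ≤ Cfsg.pCore 2 U) :
    U ≤ Subgroup.normalizer (W : Set G) := by
  induction hm : Nat.card U using Nat.strong_induction_on generalizing U with
  | _ m ih =>
    subst hm
    by_contra hnle
    have hWU : W ≤ U := hW.trans hSU
    let SU := S.subtype hSU
    set WU := W.subgroupOf U with hWUdef
    have hmapW : WU.map U.subtype = W := Subgroup.map_subgroupOf_eq_of_le hWU
    have hmapS : (SU : Subgroup U).map U.subtype = (S : Subgroup G) := by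
      rw [Sylow.coe_subtype, Subgroup.map_subgroupOf_eq_of_le hSU]
    have hnorm : ∀ x : U, x ∈ Subgroup.normalizer (WU : Set U) ↔
        (x : G) ∈ Subgroup.normalizer (W : Set G) := by
      intro x
      constructor
      · intro hx
        have h := Subgroup.le_normalizer_map U.subtype (Subgroup.mem_map_of_mem U.subtype hx)
        rwa [hmapW] at h
      · intro hx
        refine Subgroup.mem_normalizer_iff.mpr fun y => ?_
        rw [Subgroup.mem_subgroupOf, Subgroup.mem_subgroupOf]
        exact Subgroup.mem_normalizer_iff.mp hx y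
    have hcen : ∀ x : U, x ∈ Subgroup.centralizer (WU : Set U) ↔
        (x : G) ∈ Subgroup.centralizer (W : Set G) := by
      intro x
      conv_lhs => rw [← comap_centralizer_map U.subtype U.subtype_injective WU, hmapW]
      rfl
    refine Setup.false (S := SU) (W := WU) ⟨hs4, hsolv, hc, PGroups.elemAb_subgroupOf hel U,
      Subgroup.comap_mono hW, fun x hx => (hnorm x).mpr (hn hx), ?_, ?_, ?_, ?_⟩
    · intro R hR hc1 hc2
      refine sq_of_map U.subtype U.subtype_injective ?_
      rw [hmapW]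
      refine hsq _ ((Subgroup.map_mono hR).trans hmapS.le) ?_ ?_
      · rintro _ ⟨a, ha, rfl⟩ _ ⟨b, hb, rfl⟩
        exact (hcen _).mp (hc1 a ha b hb)
      · rintro _ ⟨a, ha, rfl⟩
        exact (hcen _).mp (hc2 a ha)
    · intro x hx
      refine (hnorm x).mpr (hJ ?_)
      have h := Subgroup.le_normalizer_map U.subtype (Subgroup.mem_map_of_mem U.subtype hx)
      rwa [PGroups.map_thompsonSubgroupOf _ U.subtype_injective, hmapS] at h
    · intro U' hSU' hU'
      have hle : U'.map U.subtype ≤ U := Subgroup.map_subtype_le _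
      have hlt : Nat.card (U'.map U.subtype) < Nat.card U := by
        rw [Subgroup.card_map_of_injective U.subtype_injective]
        refine lt_of_le_of_ne (Subgroup.card_le_card_group _) fun h => hU' ?_
        exact Subgroup.eq_top_of_card_eq _ h
      have hS' : (S : Subgroup G) ≤ U'.map U.subtype := hmapS.ge.trans (Subgroup.map_mono hSU')
      have h := ih _ hlt (U'.map U.subtype) hS'
        (fun h => hs4 (Transfer.InvolvesS4.involves_of_injective (Subgroup.inclusion hle)
          (Subgroup.inclusion_injective hle) h))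
        (solvable_of_solvable_injective (Subgroup.inclusion_injective hle))
        (c2_of_le hle S hS' hc) rfl
      exact fun x hx => (hnorm x).mpr (h (Subgroup.mem_map_of_mem _ hx))
    · intro htop
      exact hnle fun x hx => (hnorm ⟨x, hx⟩).mp (by rw [htop]; trivial)

theorem pPrimeCore_eq_bot {H : Type*} [Group H] [Finite H]
    (hc : Subgroup.centralizer (Cfsg.pCore 2 H : Set H) ≤ Cfsg.pCore 2 H) :
    Cfsg.pPrimeCore 2 H = ⊥ := by
  have : Fact (Nat.Prime 2) := ⟨Nat.prime_two⟩
  set O := Cfsg.pPrimeCore 2 H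
  have hdis : Cfsg.pCore 2 H ⊓ O = ⊥ := Cores.pCore_inf_pPrimeCore 2
  have hle : O ≤ Cfsg.pCore 2 H := by
    refine le_trans ?_ hc
    rw [← Subgroup.commutator_eq_bot_iff_le_centralizer, eq_bot_iff, ← hdis, inf_comm]
    exact Subgroup.commutator_le_inf O (Cfsg.pCore 2 H)
  rw [← hdis, inf_eq_right.mpr hle]

/-- The maximal elementary abelian subgroups of the Sylow 2-subgroups centralise the reduced module. -/
theorem thompsonSubgroup_le_centralizer {H : Type*} [Group H] [Finite H] [Group.IsSolvable H]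
    (hs4 : ¬ Cfsg.Involves (Equiv.Perm (Fin 4)) H)
    (hc : Subgroup.centralizer (Cfsg.pCore 2 H : Set H) ≤ Cfsg.pCore 2 H) :
    Cfsg.thompsonSubgroup 2 H ≤ Subgroup.centralizer (omegaCenterSup 2 H : Set H) := by
  have : Fact (Nat.Prime 2) := ⟨Nat.prime_two⟩
  set V := omegaCenterSup 2 H with hV
  have hVel : Cfsg.IsElementaryAbelian 2 V := omegaCenterSup_elemAb hc
  have hred : Cfsg.pCore 2 (H ⧸ Subgroup.centralizer (V : Set H)) = ⊥ :=
    pCore_quotient_eq_bot _ fun D hD hle ⟨k, hk⟩ =>
      haveI := hD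
      eq_centralizer_of_generated omegaCenterSup_generated D hle hk
  refine sSup_le fun A hA => ?_
  set CV := Subgroup.centralizer (V : Set H)
  have hsq : Sq V A := sq_of_reduced hs4 V hVel hred A
    (fun a ha b hb => by
      rw [PGroups.elemAb_comm hA.1 ha hb, mul_inv_cancel_right, mul_inv_cancel]; exact one_mem _)
    (fun a ha => by rw [← pow_two, hA.1.2 a ha]; exact one_mem _)
  have hbest := (bestOffender_of_maxElemAb hA hVel).1 (A ⊓ CV) inf_le_left
  have hfix : V ⊓ Subgroup.centralizer ((A ⊓ CV : Subgroup H) : Set H) = V :=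
    fixOn_eq_self_iff.mpr inf_le_right
  rw [hfix, ← relIndex_centralizer_mul_card V A] at hbest
  have h2 : Nat.card A = CV.relIndex A * Nat.card (A ⊓ CV : Subgroup H) := by
    have h := relIndex_mul_relIndex (⊥ : Subgroup H) (A ⊓ CV) A bot_le inf_le_left
    rw [relIndex_bot_left, relIndex_bot_left, inf_relIndex_left] at h
    rw [mul_comm]; exact h.symm
  rw [h2] at hbest
  have hle : (Subgroup.centralizer (A : Set H)).relIndex V ≤ CV.relIndex A := by
    refine Nat.le_of_mul_le_mul_right ?_ (Nat.mul_pos (Nat.card_pos (α := (A ⊓ CV : Subgroup H)))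
      (Nat.card_pos (α := fixOn V A)))
    calc _ = Nat.card (A ⊓ CV : Subgroup H) *
          ((Subgroup.centralizer (A : Set H)).relIndex V * Nat.card (fixOn V A)) := by ring
      _ ≤ _ := hbest
      _ = _ := by ring
  have h3 : CV.relIndex A * CV.relIndex A ≤ 1 * CV.relIndex A := by
    rw [one_mul, ← pow_two]; exact le_trans hsq hle
  have hpos : 0 < CV.relIndex A := Nat.pos_of_ne_zero Subgroup.index_ne_zero_of_finite
  have h4 := Nat.le_of_mul_le_mul_right h3 hpos
  exact Subgroup.relIndex_eq_one.mp (by omega)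

/-- Thompson factorization `H = C(Ω₁Z(R)) N(J(R))`. -/
theorem exists_factorization {H : Type*} [Group H] [Finite H] [Group.IsSolvable H]
    (hs4 : ¬ Cfsg.Involves (Equiv.Perm (Fin 4)) H)
    (hc : Subgroup.centralizer (Cfsg.pCore 2 H : Set H) ≤ Cfsg.pCore 2 H) (R : Sylow 2 H) (h : H) :
    ∃ c ∈ Subgroup.centralizer (omegaCenterOf 2 (R : Subgroup H) : Set H),
      ∃ n ∈ Subgroup.normalizer (Cfsg.thompsonSubgroupOf 2 (R : Subgroup H) : Set H), h = c * n := by
  have : Fact (Nat.Prime 2) := ⟨Nat.prime_two⟩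
  obtain ⟨x, hx, c, hcc, n, hn, rfl⟩ :=
    factorizable_of_le (thompsonSubgroup_le_centralizer hs4 hc) R h
  rw [pPrimeCore_eq_bot hc, Subgroup.mem_bot] at hx
  subst hx
  exact ⟨c, hcc, n, hn, by rw [one_mul]⟩

/-- The Thompson subgroup of a nontrivial 2-group is nontrivial. -/
theorem thompsonSubgroupOf_ne_bot {R : Subgroup G} (hR : IsPGroup 2 R) (hne : R ≠ ⊥) :
    Cfsg.thompsonSubgroupOf 2 R ≠ ⊥ := by
  have : Fact (Nat.Prime 2) := ⟨Nat.prime_two⟩
  intro hbot
  obtain ⟨A, hA⟩ := PGroups.maxElemAbIn_nonempty 2 R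
  have hA1 : A = ⊥ := le_bot_iff.mp ((PGroups.le_thompsonSubgroupOf hA).trans hbot.le)
  have hdvd : 2 ∣ Nat.card R := by
    obtain ⟨j, hj⟩ := hR.exists_card_eq
    rcases Nat.eq_zero_or_pos j with h | h
    · subst h
      exact absurd (Subgroup.eq_bot_of_card_eq R (by rw [hj, pow_zero])) hne
    · rw [hj]; exact dvd_pow_self 2 h.ne'
  obtain ⟨x, hx⟩ := exists_prime_orderOf_dvd_card' (G := R) 2 hdvd
  have hx2 : orderOf (x : G) = 2 := by rwa [Subgroup.orderOf_coe]
  have h := hA.2.2 (Subgroup.zpowers (x : G)) (Subgroup.zpowers_le.mpr x.2)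
    (PGroups.elemAb_zpowers (by rw [← hx2]; exact pow_orderOf_eq_one _))
  rw [Nat.card_zpowers, hx2, hA1, Subgroup.card_bot] at h
  omega

theorem omegaCenterOf_ne_bot {R : Subgroup G} (hR : IsPGroup 2 R) (hne : R ≠ ⊥) :
    omegaCenterOf 2 R ≠ ⊥ := by
  have : Fact (Nat.Prime 2) := ⟨Nat.prime_two⟩
  refine PGroups.omegaOne_ne_bot (hR.to_le inf_le_left) fun hbot => ?_
  have : Nontrivial R := (Subgroup.nontrivial_iff_ne_bot R).mpr hne
  have : Nontrivial (Subgroup.center R) := hR.center_nontrivial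
  obtain ⟨⟨z, hz⟩, hz1⟩ := exists_ne (1 : Subgroup.center R)
  have hmem : (z : G) ∈ R ⊓ Subgroup.centralizer (R : Set G) := ⟨z.2,
    Subgroup.mem_centralizer_iff.mpr fun y hy =>
      congrArg Subtype.val (Subgroup.mem_center_iff.mp hz ⟨y, hy⟩)⟩
  rw [hbot, Subgroup.mem_bot] at hmem
  exact hz1 (Subtype.ext (Subtype.ext hmem))

/-- A nontrivial subgroup of `S` normalized by every characteristic-two subgroup containing `S`. -/
theorem exists_normal_subgroup (S : Sylow 2 G)
    (hne : (S : Subgroup G) ≠ ⊥)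
    (hL : Group.IsSolvable ↥(Subgroup.normalizer (Cfsg.thompsonSubgroupOf 2 (S : Subgroup G) : Set G)) ∧
      Subgroup.centralizer (Cfsg.pCore 2
          ↥(Subgroup.normalizer (Cfsg.thompsonSubgroupOf 2 (S : Subgroup G) : Set G)) :
            Set ↥(Subgroup.normalizer (Cfsg.thompsonSubgroupOf 2 (S : Subgroup G) : Set G))) ≤
        Cfsg.pCore 2 ↥(Subgroup.normalizer (Cfsg.thompsonSubgroupOf 2 (S : Subgroup G) : Set G)) ∧
      ¬ Cfsg.Involves (Equiv.Perm (Fin 4))
        ↥(Subgroup.normalizer (Cfsg.thompsonSubgroupOf 2 (S : Subgroup G) : Set G))) :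
    ∃ W : Subgroup G, W ≤ (S : Subgroup G) ∧ W ≠ ⊥ ∧ (S : Subgroup G) ≤ Subgroup.normalizer (W : Set G) ∧
      ∀ U : Subgroup G, (S : Subgroup G) ≤ U → ¬ Cfsg.Involves (Equiv.Perm (Fin 4)) U →
        Group.IsSolvable U → Subgroup.centralizer (Cfsg.pCore 2 U : Set U) ≤ Cfsg.pCore 2 U →
        U ≤ Subgroup.normalizer (W : Set G) := by
  have : Fact (Nat.Prime 2) := ⟨Nat.prime_two⟩
  set L := Subgroup.normalizer (Cfsg.thompsonSubgroupOf 2 (S : Subgroup G) : Set G) with hLdef
  obtain ⟨hsolv, hc, hs4⟩ := hL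
  have := hsolv
  have hSL : (S : Subgroup G) ≤ L :=
    Subgroup.le_normalizer.trans (PGroups.normalizer_le_normalizer_thompson _)
  let SL := S.subtype hSL
  have hmapS : (SL : Subgroup L).map L.subtype = (S : Subgroup G) := by
    rw [Sylow.coe_subtype, Subgroup.map_subgroupOf_eq_of_le hSL]
  set V := omegaCenterSup 2 L with hV
  set W := V.map L.subtype with hWdef
  have hVel : Cfsg.IsElementaryAbelian 2 V := omegaCenterSup_elemAb hc
  have hVS : V ≤ (SL : Subgroup L) :=
    ((omegaCenterSup_le_center_pCore hc).trans inf_le_left).trans (Cores.pCore_le_sylow SL)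
  have hWS : W ≤ (S : Subgroup G) := (Subgroup.map_mono hVS).trans hmapS.le
  have hLW : L ≤ Subgroup.normalizer (W : Set G) := by
    refine le_trans ?_ (Subgroup.le_normalizer_map L.subtype)
    rw [Subgroup.normalizer_eq_top, ← MonoidHom.range_eq_map, Subgroup.range_subtype]
  have hred : Cfsg.pCore 2 (L ⧸ Subgroup.centralizer (V : Set L)) = ⊥ :=
    pCore_quotient_eq_bot _ fun D hD hle ⟨k, hk⟩ =>
      haveI := hD
      eq_centralizer_of_generated omegaCenterSup_generated D hle hk
  refine ⟨W, hWS, ?_, hSL.trans hLW, fun U hSU h4 hsU hcU => le_normalizer_of_sq S W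
    (PGroups.elemAb_map _ hVel) hWS (hSL.trans hLW) ?_ hLW U hSU h4 hsU hcU⟩
  · intro hbot
    have hle : omegaCenterOf 2 (S : Subgroup G) ≤ W := by
      rw [← hmapS, ← map_omegaCenterOf _ L.subtype_injective]
      exact Subgroup.map_mono (le_iSup (fun T : Sylow 2 L => omegaCenterOf 2 (T : Subgroup L)) SL)
    exact omegaCenterOf_ne_bot S.2 hne (le_bot_iff.mp (hle.trans hbot.le))
  · intro R hR hc1 hc2
    have hRL : R ≤ L := hR.trans hSL
    rw [← Subgroup.map_subgroupOf_eq_of_le hRL]
    refine sq_map L.subtype L.subtype_injective (sq_of_reduced hs4 V hVel hred _ ?_ ?_)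
    · intro a ha b hb
      rw [← comap_centralizer_map L.subtype L.subtype_injective V]
      exact hc1 a ha b hb
    · intro a ha
      rw [← comap_centralizer_map L.subtype L.subtype_injective V]
      exact hc2 a ha

end Cfsg.Agent.Lib.SFourFree
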