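import Cfsg.Agent.Lib.SFourFree.Reduced

/-!
# A quadratic bound failure gives a section isomorphic to the symmetric group of degree three

Owner: helper65.
-/

set_option autoImplicit false

namespace Cfsg.Agent.Lib.SFourFree

open Subgroup PLocal

variable {G : Type*} [Group G]

theorem perm_three_cases : ∀ σ : Equiv.Perm (Fin 3),
    σ = 1 ∨ σ = Equiv.swap 1 2 ∨ σ = Equiv.swap 0 2 ∨ σ = Equiv.swap 1 2 * Equiv.swap 0 2 ∨
      σ = Equiv.swap 0 2 * Equiv.swap 1 2 ∨
      σ = Equiv.swap 1 2 * Equiv.swap 0 2 * Equiv.swap 1 2 := by decide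

/-- Two transpositions of three commuting involutions. -/
theorem involves_three_of_pair {M : Subgroup G} {a b e f : G} (ha : a ∈ M) (hb : b ∈ M)
    (hee : e * e = 1) (hff : f * f = 1) (hef : e * f = f * e) (he : e ≠ 1) (hf : f ≠ 1)
    (hne : e ≠ f) (ha1 : a * e * a⁻¹ = e) (ha2 : a * f * a⁻¹ = e * f)
    (hb1 : b * f * b⁻¹ = f) (hb2 : b * e * b⁻¹ = e * f) :
    Cfsg.Involves (Equiv.Perm (Fin 3)) ↥M := by
  classical
  let q : Fin 3 → G := ![e, f, e * f]
  have hq : Function.Injective q := by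
    intro i j h
    fin_cases i <;> fin_cases j <;> simp_all [q]
  let Ω : Set G := Set.range q
  let K : Subgroup ↥M := (Subgroup.normalizer Ω).subgroupOf M
  have hmem : ∀ (k : K) (x : G), x ∈ Ω → ((k : M) : G) * x * ((k : M) : G)⁻¹ ∈ Ω := fun k x hx =>
    (Subgroup.mem_set_normalizer_iff.mp k.2 x).mp hx
  let φ₀ : K →* Equiv.Perm Ω :=
    { toFun := fun k =>
        { toFun := fun x => ⟨_, hmem k x x.2⟩
          invFun := fun x => ⟨_, hmem k⁻¹ x x.2⟩
          left_inv := fun x => Subtype.ext (by simp [mul_assoc])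
          right_inv := fun x => Subtype.ext (by simp [mul_assoc]) }
      map_one' := Equiv.ext fun x => Subtype.ext (by simp)
      map_mul' := fun k l => Equiv.ext fun x => Subtype.ext (by simp [mul_assoc]) }
  let ε : Ω ≃ Fin 3 := (Equiv.ofInjective q hq).symm
  let φ : K →* Equiv.Perm (Fin 3) := ε.permCongrHom.toMonoidHom.comp φ₀
  have hval : ∀ (k : K) (i j : Fin 3), ((k : M) : G) * q i * ((k : M) : G)⁻¹ = q j → φ k i = j := by
    intro k i j h
    show ε (φ₀ k (ε.symm i)) = j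
    rw [Equiv.apply_eq_iff_eq_symm_apply]
    exact Subtype.ext h
  have hnorm : ∀ g : G, g * g ∈ Subgroup.centralizer Ω → (∀ i, ∃ j, g * q i * g⁻¹ = q j) →
      g ∈ Subgroup.normalizer Ω := by
    intro g hg2 h
    refine Subgroup.mem_set_normalizer_iff.mpr fun x => ⟨?_, fun hx => ?_⟩
    · rintro ⟨i, rfl⟩
      obtain ⟨j, hj⟩ := h i
      exact ⟨j, hj.symm⟩
    · obtain ⟨i, hi⟩ := hx
      obtain ⟨j, hj⟩ := h i
      have h2 : g * g * q j * (g * g)⁻¹ = q j := by
        rw [← Subgroup.mem_centralizer_iff.mp hg2 (q j) ⟨j, rfl⟩, mul_inv_cancel_right]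
      refine ⟨j, mul_left_cancel (a := g * g) (mul_right_cancel (b := (g * g)⁻¹) ?_)⟩
      calc g * g * q j * (g * g)⁻¹ = q j := h2
        _ = g * (g * x * g⁻¹) * g⁻¹ := by rw [← hi, hj]
        _ = g * g * x * (g * g)⁻¹ := by group
  have hefa : a * (e * f) * a⁻¹ = f := by
    calc a * (e * f) * a⁻¹ = (a * e * a⁻¹) * (a * f * a⁻¹) := by group
      _ = f := by rw [ha1, ha2, ← mul_assoc, hee, one_mul]
  have hefb : b * (e * f) * b⁻¹ = e := by
    calc b * (e * f) * b⁻¹ = (b * e * b⁻¹) * (b * f * b⁻¹) := by group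
      _ = e := by rw [hb2, hb1, mul_assoc, hff, mul_one]
  have haN : a ∈ Subgroup.normalizer Ω := by
    refine hnorm a (Subgroup.mem_centralizer_iff.mpr ?_) ?_
    · rintro _ ⟨i, rfl⟩
      have : a * a * q i * (a * a)⁻¹ = q i := by
        rw [show a * a * q i * (a * a)⁻¹ = a * (a * q i * a⁻¹) * a⁻¹ by group]
        fin_cases i <;> simp only [q] <;> simp_all
      exact (mul_inv_eq_iff_eq_mul.mp this).symm
    · intro i
      fin_cases i
      · exact ⟨0, ha1⟩
      · exact ⟨2, ha2⟩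
      · exact ⟨1, hefa⟩
  have hbN : b ∈ Subgroup.normalizer Ω := by
    refine hnorm b (Subgroup.mem_centralizer_iff.mpr ?_) ?_
    · rintro _ ⟨i, rfl⟩
      have : b * b * q i * (b * b)⁻¹ = q i := by
        rw [show b * b * q i * (b * b)⁻¹ = b * (b * q i * b⁻¹) * b⁻¹ by group]
        fin_cases i <;> simp only [q] <;> simp_all
      exact (mul_inv_eq_iff_eq_mul.mp this).symm
    · intro i
      fin_cases i
      · exact ⟨2, hb2⟩
      · exact ⟨1, hb1⟩
      · exact ⟨0, hefb⟩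
  let a' : K := ⟨⟨a, ha⟩, haN⟩
  let b' : K := ⟨⟨b, hb⟩, hbN⟩
  have hsa : φ a' = Equiv.swap 1 2 := by
    refine Equiv.ext fun i => ?_
    fin_cases i
    · exact hval a' 0 0 ha1
    · exact hval a' 1 2 ha2
    · exact hval a' 2 1 hefa
  have hsb : φ b' = Equiv.swap 0 2 := by
    refine Equiv.ext fun i => ?_
    fin_cases i
    · exact hval b' 0 2 hb2
    · exact hval b' 1 1 hb1
    · exact hval b' 2 0 hefb
  refine Transfer.InvolvesS4.involves_of_hom K φ fun σ => ?_
  rcases perm_three_cases σ with h | h | h | h | h | h <;> subst h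
  · exact ⟨1, map_one φ⟩
  · exact ⟨a', hsa⟩
  · exact ⟨b', hsb⟩
  · exact ⟨a' * b', by rw [map_mul, hsa, hsb]⟩
  · exact ⟨b' * a', by rw [map_mul, hsa, hsb]⟩
  · exact ⟨a' * b' * a', by rw [map_mul, map_mul, hsa, hsb]⟩

/-- Statement form. -/
theorem involves_three_of_small [Finite G] (M V : Subgroup G) (hV : Cfsg.IsElementaryAbelian 2 V)
    (hMV : M ≤ Subgroup.normalizer (V : Set G))
    (hfaith : M ⊓ Subgroup.centralizer (V : Set G) = ⊥)
    (hcon : Subgroup.centralizer (Cfsg.pPrimeCore 2 ↥M : Set ↥M) ≤ Cfsg.pPrimeCore 2 ↥M)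
    (A : Subgroup G) (hAM : A ≤ M) (hA : Cfsg.IsElementaryAbelian 2 A)
    (hsmall : (V ⊓ Subgroup.centralizer (A : Set G)).relIndex V < Nat.card A ^ 2) :
    Cfsg.Involves (Equiv.Perm (Fin 3)) ↥M := by
  have : Fact (Nat.Prime 2) := ⟨Nat.prime_two⟩
  by_contra hno
  set K := (Cfsg.pPrimeCore 2 ↥M).map M.subtype with hKdef
  have hKM : K ≤ M := Subgroup.map_subtype_le _
  have hKodd : Odd (Nat.card K) := by
    rw [Subgroup.card_map_of_injective M.subtype_injective]
    exact Nat.coprime_two_right.mp (Cores.pPrimeCore_coprime 2)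
  have hAK : A ≤ Subgroup.normalizer (K : Set G) := hAM.trans (by
    refine le_trans ?_ (Subgroup.le_normalizer_map M.subtype)
    rw [Subgroup.normalizer_eq_top, ← MonoidHom.range_eq_map, Subgroup.range_subtype])
  have hKf : K ⊓ Subgroup.centralizer (V : Set G) = ⊥ :=
    eq_bot_iff.mpr ((inf_le_inf_right _ hKM).trans hfaith.le)
  have hAf : A ⊓ Subgroup.centralizer (K : Set G) = ⊥ := by
    rw [eq_bot_iff]
    rintro x ⟨hx, hxc⟩
    have hmem : (⟨x, hAM hx⟩ : M) ∈ Cfsg.pPrimeCore 2 ↥M := hcon (Subgroup.mem_centralizer_iff.mpr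
      fun y hy => Subtype.ext (Subgroup.mem_centralizer_iff.mp hxc _ ⟨y, hy, rfl⟩))
    have h1 : orderOf x ∣ Nat.card K := Subgroup.orderOf_dvd_natCard K ⟨_, hmem, rfl⟩
    rw [Subgroup.mem_bot, ← orderOf_eq_one_iff]
    exact Nat.eq_one_of_dvd_coprimes (Nat.coprime_two_right.mpr hKodd) h1
      (orderOf_dvd_of_pow_eq_one (hA.2 x hx))
  have hT : NoTransv V A K := by
    intro V' hV' a ha k hk haN hkN hinv hk1 hfk
    by_contra hle
    push Not at hle
    obtain ⟨e, f, heV, hfV, he, hf, hne, h1, h2, h3, h4⟩ :=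
      exists_pair_of_transvection (PGroups.elemAb_mono hV hV') haN hkN
        (by rw [← pow_two, hA.2 a ha]; exact one_mem _)
        (hKodd.of_dvd_nat (Subgroup.orderOf_dvd_natCard K hk))
        (fun h => hk1 (by simpa using hfk 1 (by rw [pow_one]; exact h)))
        (by rw [hinv, inv_mul_cancel]; exact one_mem _) hle
    refine hno (involves_three_of_pair (hAM ha)
      (mul_mem (mul_mem (hKM hk) (hAM ha)) (inv_mem (hKM hk))) ?_ ?_
      (PGroups.elemAb_comm hV (hV' heV) (hV' hfV)) he hf hne h1 h2 h3 h4)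
    · rw [← pow_two]; exact hV.2 e (hV' heV)
    · rw [← pow_two]; exact hV.2 f (hV' hfV)
  have hmain := card_sq_mul_fixOn_le hV hA hKodd (hAM.trans hMV) (hKM.trans hMV) hAK hKf hAf hT
  rw [inf_relIndex_left] at hsmall
  rw [← relIndex_centralizer_mul_card V A] at hmain
  exact absurd (Nat.le_of_mul_le_mul_right hmain Nat.card_pos) (not_le.mpr hsmall)

end Cfsg.Agent.Lib.SFourFree
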