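import Mathlib
import Cfsg.Agent.Lib.PLocal.Action
import Cfsg.Agent.Lib.FourFree.Section

/-!
# A transvection inverting an element of odd order

If `a` centralises a subgroup of index at most two of the elementary abelian 2-group `V` and inverts,
modulo `C(V)`, an element `k` of odd order acting nontrivially on `V`, then `Sym(4)` is involved.

Owner: helper65.
-/

set_option autoImplicit false

namespace Cfsg.Agent.Lib.SFourFree

open Subgroup PLocal

variable {G : Type*} [Group G]

/-- An element of odd order that centralises its commutator with `x`, an element of order a power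
of two, centralises `x`. -/
theorem conj_eq_self_of_odd {g x : G} (hg : Odd (orderOf g)) (j : ℕ)
    (hc : g * (g * x * g⁻¹ * x⁻¹) * g⁻¹ = g * x * g⁻¹ * x⁻¹)
    (hck : (g * x * g⁻¹ * x⁻¹) ^ 2 ^ j = 1) : g * x * g⁻¹ = x := by
  set c := g * x * g⁻¹ * x⁻¹ with hcdef
  have hgx : g * x * g⁻¹ = c * x := by rw [hcdef, inv_mul_cancel_right]
  have hstep : ∀ n : ℕ, g ^ n * x * (g ^ n)⁻¹ = c ^ n * x := by
    intro n
    induction n with
    | zero => simp
    | succ n ih =>
        calc g ^ (n + 1) * x * (g ^ (n + 1))⁻¹ = g * (g ^ n * x * (g ^ n)⁻¹) * g⁻¹ := by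
              rw [pow_succ']; group
          _ = g * c ^ n * g⁻¹ * (g * x * g⁻¹) := by rw [ih]; group
          _ = c ^ n * (c * x) := by rw [← conj_pow, hc, hgx]
          _ = _ := by rw [pow_succ, mul_assoc (c ^ n) c x]
  have h1 := hstep (orderOf g)
  rw [pow_orderOf_eq_one, one_mul, inv_one, mul_one] at h1
  have h2 : c ^ orderOf g = 1 := mul_eq_right.1 h1.symm
  have h3 := pow_gcd_eq_one.mpr ⟨h2, hck⟩
  rw [Nat.Coprime.pow_right j (Nat.coprime_two_right.mpr hg), pow_one] at h3
  rw [hgx, h3, one_mul]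

/-- The transvection computation in the automorphism group of an elementary abelian 2-group. -/
theorem exists_pair_aux {U : Type*} [CommGroup U] [Finite U] (hU : ∀ u : U, u * u = 1)
    {α κ : MulAut U} (hα : α * α = 1) (hinv : α * κ * α⁻¹ = κ⁻¹) (hκ : Odd (orderOf κ))
    (hκ1 : κ ≠ 1) (hidx : Nat.card U ≤ 2 * Nat.card {u : U // α u = u}) :
    ∃ e f : U, e ≠ 1 ∧ f ≠ 1 ∧ e ≠ f ∧ α e = e ∧ α f = e * f ∧
      (κ * α * κ⁻¹) f = f ∧ (κ * α * κ⁻¹) e = e * f := by
  classical
  have hinvU : ∀ u : U, u⁻¹ = u := fun u => inv_eq_of_mul_eq_one_right (hU u)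
  have hαα : ∀ u, α (α u) = u := fun u => by rw [← MulAut.mul_apply, hα, MulAut.one_apply]
  let δ : U →* U :=
    { toFun := fun u => α u * u
      map_one' := by simp
      map_mul' := fun u v => by rw [map_mul, mul_mul_mul_comm] }
  have hker : ∀ u, u ∈ δ.ker ↔ α u = u := fun u => by
    rw [MonoidHom.mem_ker]
    change α u * u = 1 ↔ _
    rw [mul_eq_one_iff_eq_inv, hinvU]
  have hrange : Nat.card δ.range ≤ 2 := by
    have h1 := δ.ker.index_mul_card
    rw [Subgroup.index_ker] at h1
    have h2 : Nat.card {u : U // α u = u} = Nat.card δ.ker :=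
      Nat.card_congr (Equiv.subtypeEquivRight fun u => (hker u).symm)
    rw [h2, ← h1] at hidx
    exact Nat.le_of_mul_le_mul_right hidx Nat.card_pos
  have hα1 : α ≠ 1 := by
    intro h
    rw [h] at hinv
    have h2 : κ * κ = 1 := by
      rw [one_mul, inv_one, mul_one] at hinv
      nth_rewrite 1 [hinv]
      exact inv_mul_cancel κ
    have h3 : orderOf κ ∣ 2 := orderOf_dvd_of_pow_eq_one (by rw [pow_two]; exact h2)
    rcases (Nat.dvd_prime Nat.prime_two).mp h3 with h4 | h4
    · exact hκ1 (orderOf_eq_one_iff.mp h4)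
    · rw [h4] at hκ; exact absurd hκ (by decide)
  obtain ⟨v, hv⟩ : ∃ v, α v ≠ v := by
    by_contra hne
    push Not at hne
    exact hα1 (MulEquiv.ext fun u => by rw [MulAut.one_apply]; exact hne u)
  set e := δ v with he
  have he1 : e ≠ 1 := fun h => hv ((hker v).mp h)
  have hstep : ∀ u, α u = u ∨ α u = e * u := by
    intro u
    by_cases h : α u = u
    · exact Or.inl h
    refine Or.inr ?_
    have hu : δ u ≠ 1 := fun h' => h ((hker u).mp h')
    have hee : δ u = e := by
      by_contra hne
      let F : Fin 3 → δ.range := ![1, ⟨δ u, ⟨u, rfl⟩⟩, ⟨e, ⟨v, rfl⟩⟩]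
      have hF : Function.Injective F := by
        intro i j hij
        have h' := congrArg (fun t : δ.range => (t : U)) hij
        fin_cases i <;> fin_cases j <;> simp [F] at h' <;>
          first | rfl | exact absurd h' hu | exact absurd h'.symm hu | exact absurd h' he1 |
            exact absurd h'.symm he1 | exact absurd h' hne | exact absurd h'.symm hne
      have h3 := Nat.card_le_card_of_injective F hF
      rw [Nat.card_fin] at h3
      omega
    rw [← hee]
    change α u = α u * u * u
    rw [mul_assoc, hU, mul_one]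
  have hαe : α e = e := by
    change α (α v * v) = α v * v
    rw [map_mul, hαα, mul_comm]
  set β := κ * α * κ⁻¹ with hβ
  set f := κ e with hf
  have hf1 : f ≠ 1 := fun h => he1 ((map_eq_one_iff κ κ.injective).mp h)
  have hκκ : ∀ u, κ⁻¹ (κ u) = u := fun u => by rw [← MulAut.mul_apply, inv_mul_cancel, MulAut.one_apply]
  have hκκ' : ∀ u, κ (κ⁻¹ u) = u := fun u => by rw [← MulAut.mul_apply, mul_inv_cancel, MulAut.one_apply]
  have hβap : ∀ u, β u = κ (α (κ⁻¹ u)) := fun u => rfl
  have hβf : β f = f := by rw [hβap, hf, hκκ, hαe]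
  have hβstep : ∀ u, β u = u ∨ β u = f * u := by
    intro u
    rw [hβap]
    rcases hstep (κ⁻¹ u) with h | h
    · exact Or.inl (by rw [h, hκκ'])
    · exact Or.inr (by rw [h, map_mul, hκκ'])
  have hc : β * α = κ * κ := by
    have h1 : α * κ⁻¹ * α⁻¹ = κ := by
      have := congrArg (·⁻¹) hinv
      simpa [mul_assoc] using this
    have hαi : α⁻¹ = α := inv_eq_of_mul_eq_one_right hα
    rw [hαi] at h1
    calc β * α = κ * (α * κ⁻¹ * α) := by rw [hβ]; group
      _ = κ * κ := by rw [h1]
  have hboth : α f = e * f ∧ β e = e * f := by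
    by_contra hne
    apply hκ1
    -- `(κ²)⁴ = 1`
    have hfix : α f = f ∨ β e = e := by
      rcases hstep f with h | h
      · exact Or.inl h
      · rcases hβstep e with h' | h'
        · exact Or.inr h'
        · exact absurd ⟨h, by rw [h', mul_comm]⟩ hne
    have hce : (β * α) ((β * α) e) = e := by
      simp only [MulAut.mul_apply, hαe]
      rcases hβstep e with h | h
      · simp [h, hαe]
      · rcases hfix with hh | hh
        · rw [h, map_mul, hh, hαe, map_mul, hβf, h, ← mul_assoc, hU, one_mul]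
        · simp [hh, hαe]
    have hcf : (β * α) ((β * α) f) = f := by
      simp only [MulAut.mul_apply]
      rcases hstep f with h | h
      · simp [h, hβf]
      · rcases hfix with hh | hh
        · simp [hh, hβf]
        · rw [h, map_mul, hh, hβf, map_mul, hαe, h, ← mul_assoc, hU, one_mul, hβf]
    have hu : ∀ u, (β * α) ((β * α) ((β * α) ((β * α) u))) = u := by
      intro u
      obtain ⟨x, hx, hxx⟩ : ∃ x, (β * α) u = u * x ∧ (β * α) ((β * α) x) = x := by
        rw [MulAut.mul_apply]
        rcases hstep u with h | h <;> rw [h]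
        · rcases hβstep u with h' | h' <;> rw [h']
          · exact ⟨1, by simp, by simp⟩
          · exact ⟨f, mul_comm _ _, hcf⟩
        · rcases hβstep (e * u) with h' | h' <;> rw [h']
          · exact ⟨e, mul_comm _ _, hce⟩
          · refine ⟨f * e, ?_, ?_⟩
            · rw [← mul_assoc, mul_comm]
            · rw [map_mul, map_mul, hce, hcf]
      have h2 : (β * α) ((β * α) u) = u * (x * (β * α) x) := by
        rw [hx, map_mul, hx, mul_assoc]
      rw [h2, map_mul, map_mul, h2, map_mul (β * α) x, map_mul (β * α) ((β * α) x), hxx,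
        mul_assoc u, hU, mul_one]
    have h8 : κ ^ 2 ^ 3 = 1 := by
      have h4 : (β * α) ^ 4 = 1 := MulEquiv.ext fun u => by
        rw [pow_succ, pow_succ, pow_two, MulAut.mul_apply, MulAut.mul_apply, MulAut.mul_apply,
          MulAut.one_apply]
        exact hu u
      rw [hc, ← pow_two, ← pow_mul] at h4
      simpa using h4
    exact orderOf_eq_one_iff.mp ((Nat.Coprime.pow_right 3
      (Nat.coprime_two_right.mpr hκ)).eq_one_of_dvd (orderOf_dvd_of_pow_eq_one h8))
  refine ⟨e, f, he1, hf1, ?_, hαe, hboth.1, hβf, hboth.2⟩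
  intro hef
  have h := hboth.1
  rw [← hef, hαe, hU] at h
  exact he1 h

/-- What a transvection inverting an element of odd order gives. -/
theorem exists_pair_of_transvection [Finite G] {V : Subgroup G}
    (hV : Cfsg.IsElementaryAbelian 2 V) {a k : G} (ha : a ∈ Subgroup.normalizer (V : Set G))
    (hk : k ∈ Subgroup.normalizer (V : Set G))
    (ha2 : a * a ∈ Subgroup.centralizer (V : Set G)) (hko : Odd (orderOf k))
    (hknc : k ∉ Subgroup.centralizer (V : Set G))
    (hinv : a * k * a⁻¹ * k ∈ Subgroup.centralizer (V : Set G))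
    (hidx : Nat.card V ≤ 2 * Nat.card (fixOn V (Subgroup.zpowers a))) :
    ∃ e f : G, e ∈ V ∧ f ∈ V ∧ e ≠ 1 ∧ f ≠ 1 ∧ e ≠ f ∧
      a * e * a⁻¹ = e ∧ a * f * a⁻¹ = e * f ∧
      (k * a * k⁻¹) * f * (k * a * k⁻¹)⁻¹ = f ∧
      (k * a * k⁻¹) * e * (k * a * k⁻¹)⁻¹ = e * f := by
  let _ : CommGroup V := { V.toGroup with mul_comm := hV.1.is_comm.comm }
  let N := Subgroup.normalizer (V : Set G)
  let φ : N →* MulAut V := Subgroup.normalizerMonoidHom V
  have hap : ∀ (g : N) (u : V), (φ g u : G) = g * u * (g : G)⁻¹ := fun g u => rfl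
  have hone : ∀ g : N, φ g = 1 ↔ (g : G) ∈ Subgroup.centralizer (V : Set G) := by
    intro g
    constructor
    · intro h
      refine Subgroup.mem_centralizer_iff.mpr fun u hu => ?_
      have h1 := congrArg Subtype.val (MulEquiv.congr_fun h ⟨u, hu⟩)
      rw [hap] at h1
      exact (mul_inv_eq_iff_eq_mul.mp h1).symm
    · intro h
      refine MulEquiv.ext fun u => Subtype.ext ?_
      rw [hap, ← Subgroup.mem_centralizer_iff.mp h u u.2, mul_inv_cancel_right]
      rfl
  let a' : N := ⟨a, ha⟩
  let k' : N := ⟨k, hk⟩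
  have hφk : Odd (orderOf (φ k')) := by
    refine hko.of_dvd_nat ?_
    have := orderOf_map_dvd φ k'
    rwa [Subgroup.orderOf_mk] at this
  have h1 : φ a' * φ a' = 1 := by rw [← map_mul, hone]; exact ha2
  have h2 : φ a' * φ k' * (φ a')⁻¹ = (φ k')⁻¹ := by
    rw [← mul_eq_one_iff_eq_inv, ← map_inv, ← map_mul, ← map_mul, ← map_mul, hone]
    exact hinv
  have h3 : φ k' ≠ 1 := fun h => hknc ((hone k').mp h)
  have h4 : Nat.card V ≤ 2 * Nat.card {u : V // φ a' u = u} := by
    refine hidx.trans (Nat.mul_le_mul_left 2 ?_)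
    refine Nat.card_le_card_of_injective (fun u => ⟨⟨u.1, u.2.1⟩, Subtype.ext ?_⟩) ?_
    · rw [hap]
      have := (mem_fixOn.mp u.2).2 a (Subgroup.mem_zpowers a)
      exact mul_inv_eq_iff_eq_mul.mpr this
    · intro u u' h
      exact Subtype.ext (congrArg (fun t : {u : V // φ a' u = u} => ((t : V) : G)) h)
  obtain ⟨e, f, he, hf, hne, r1, r2, r3, r4⟩ :=
    exists_pair_aux (fun u : V => Subtype.ext (by rw [Subgroup.coe_mul, ← pow_two]; exact hV.2 u u.2))
      h1 h2 hφk h3 h4
  rw [← map_inv, ← map_mul, ← map_mul] at r3 r4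
  refine ⟨e, f, e.2, f.2, fun h => he (Subtype.ext h), fun h => hf (Subtype.ext h),
    fun h => hne (Subtype.ext h), ?_, ?_, ?_, ?_⟩
  · rw [← hap a' e, r1]
  · rw [← hap a' f, r2, Subgroup.coe_mul]
  · have := congrArg Subtype.val r3; rwa [hap] at this
  · have := congrArg Subtype.val r4; rwa [hap] at this

/-- A transvection inverting an element of odd order forces an `Sym(4)` section. -/
theorem involves_four_of_transvection [Finite G] {V : Subgroup G}
    (hV : Cfsg.IsElementaryAbelian 2 V) {a k : G} (ha : a ∈ Subgroup.normalizer (V : Set G))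
    (hk : k ∈ Subgroup.normalizer (V : Set G))
    (ha2 : a * a ∈ Subgroup.centralizer (V : Set G)) (hko : Odd (orderOf k))
    (hknc : k ∉ Subgroup.centralizer (V : Set G))
    (hinv : a * k * a⁻¹ * k ∈ Subgroup.centralizer (V : Set G))
    (hidx : Nat.card V ≤ 2 * Nat.card (fixOn V (Subgroup.zpowers a))) :
    Cfsg.Involves (Equiv.Perm (Fin 4)) G := by
  obtain ⟨e, f, heV, hfV, he, hf, hne, h1, h2, h3, h4⟩ :=
    exists_pair_of_transvection hV ha hk ha2 hko hknc hinv hidx
  refine FourFree.Section.involves_s4 ?_ ?_ (PGroups.elemAb_comm hV heV hfV) he hf hne h1 h2 h3 h4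
  · rw [← pow_two]; exact hV.2 e heV
  · rw [← pow_two]; exact hV.2 f hfV

end Cfsg.Agent.Lib.SFourFree
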