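import Cfsg.Agent.Lib.SFourFree.Base
import Cfsg.Agent.Lib.PLocal.ActionQuotient
import Cfsg.Agent.Lib.PSolvable.Basic
import Cfsg.Agent.Lib.Transfer.PResidual
import Cfsg.Agent.Lib.Transfer.InvolvesS4

/-!
# The quadratic bound for modules of `Sym(4)`-free groups

`sq_of_odd_normal`, `sq_of_reduced`, `sq_of_generated`.

Owner: helper65.
-/

set_option autoImplicit false

namespace Cfsg.Agent.Lib.SFourFree

open Subgroup PLocal

variable {G : Type*} [Group G]

theorem relIndex_centralizer_mul_card (V A : Subgroup G) :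
    (Subgroup.centralizer (A : Set G)).relIndex V * Nat.card (fixOn V A) = Nat.card V := by
  have h := relIndex_mul_relIndex (⊥ : Subgroup G) (fixOn V A) V bot_le fixOn_le
  rw [relIndex_bot_left, relIndex_bot_left, inf_relIndex_left] at h
  rw [mul_comm]; exact h

theorem sq_map {H : Type*} [Group H] (f : G →* H) (hf : Function.Injective f) {V A : Subgroup G}
    (h : Sq V A) : Sq (V.map f) (A.map f) := by
  have hc : ∀ U : Subgroup G,
      (Subgroup.centralizer ((U.map f : Subgroup H) : Set H)).comap f =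
        Subgroup.centralizer (U : Set G) := by
    intro U
    ext x
    simp only [Subgroup.mem_comap, Subgroup.mem_centralizer_iff, Subgroup.coe_map,
      Set.forall_mem_image, ← map_mul]
    exact forall₂_congr fun z _ => hf.eq_iff
  rw [Sq, ← Subgroup.relIndex_comap, ← Subgroup.relIndex_comap, hc, hc]
  exact h

theorem sq_of_map {H : Type*} [Group H] (f : G →* H) (hf : Function.Injective f) {V A : Subgroup G}
    (h : Sq (V.map f) (A.map f)) : Sq V A := by
  have hc : ∀ U : Subgroup G,
      (Subgroup.centralizer ((U.map f : Subgroup H) : Set H)).comap f =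
        Subgroup.centralizer (U : Set G) := by
    intro U
    ext x
    simp only [Subgroup.mem_comap, Subgroup.mem_centralizer_iff, Subgroup.coe_map,
      Set.forall_mem_image, ← map_mul]
    exact forall₂_congr fun z _ => hf.eq_iff
  rw [Sq, ← Subgroup.relIndex_comap, ← Subgroup.relIndex_comap, hc, hc] at h
  exact h

/-- An odd-order normal subgroup of `G/C(V)` on which `A` acts faithfully gives the bound. -/
theorem sq_of_odd_normal [Finite G] (hS4 : ¬ Cfsg.Involves (Equiv.Perm (Fin 4)) G)
    (V : Subgroup G) [V.Normal] (hV : Cfsg.IsElementaryAbelian 2 V) (A : Subgroup G)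
    (hAc : ∀ a ∈ A, ∀ b ∈ A, a * b * a⁻¹ * b⁻¹ ∈ Subgroup.centralizer (V : Set G))
    (hAs : ∀ a ∈ A, a * a ∈ Subgroup.centralizer (V : Set G))
    (K : Subgroup (G ⧸ Subgroup.centralizer (V : Set G))) [hKn : K.Normal] (hK : Odd (Nat.card K))
    (hfaith : ∀ a ∈ A, (∀ k ∈ K, QuotientGroup.mk a * k = k * QuotientGroup.mk a) →
      a ∈ Subgroup.centralizer (V : Set G)) :
    Sq V A := by
  classical
  have : Fact (Nat.Prime 2) := ⟨Nat.prime_two⟩
  set C := Subgroup.centralizer (V : Set G) with hC
  let π := QuotientGroup.mk' C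
  let ι : G ⧸ C →* actGroup V := SemidirectProduct.inr
  have hι : Function.Injective ι := SemidirectProduct.inr_injective
  have hιπ : ι.comp π = actHom V := rfl
  set A' := A.map (actHom V) with hA'
  set K' := K.map ι with hK'
  set W := actV V with hW
  have hA'el : Cfsg.IsElementaryAbelian 2 A' := by
    refine PGroups.elemAb_mk ?_ ?_
    · rintro _ ⟨a, ha, rfl⟩ _ ⟨b, hb, rfl⟩
      refine commutatorElement_eq_one_iff_mul_comm.mp ?_
      rw [← map_commutatorElement, actHom_eq_one_iff, commutatorElement_def]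
      exact hAc a ha b hb
    · rintro _ ⟨a, ha, rfl⟩
      rw [← map_pow, actHom_eq_one_iff, pow_two]
      exact hAs a ha
  have hnW : ∀ x : G ⧸ C, ι x ∈ Subgroup.normalizer (W : Set (actGroup V)) := fun x =>
    actH_le_normalizer V ⟨x, rfl⟩
  have hA'W : A' ≤ Subgroup.normalizer (W : Set (actGroup V)) := by
    rintro _ ⟨a, -, rfl⟩; exact hnW _
  have hK'W : K' ≤ Subgroup.normalizer (W : Set (actGroup V)) := by
    rintro _ ⟨k, -, rfl⟩; exact hnW _
  have hA'K : A' ≤ Subgroup.normalizer (K' : Set (actGroup V)) := by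
    rintro _ ⟨a, -, rfl⟩
    rw [Subgroup.mem_normalizer_iff_map_conj_eq, hK', Subgroup.map_map]
    have : (MulAut.conj (ι (π a))).toMonoidHom.comp ι = ι.comp (MulAut.conj (π a)).toMonoidHom :=
      MonoidHom.ext fun x => by simp
    change K.map ((MulAut.conj (ι (π a))).toMonoidHom.comp ι) = _
    rw [this, ← Subgroup.map_map]
    exact congrArg (Subgroup.map ι) (Subgroup.Normal.map_conj_eq K (π a))
  have hK'f : K' ⊓ Subgroup.centralizer (W : Set (actGroup V)) = ⊥ := by
    rw [eq_bot_iff, ← actH_faithful V]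
    exact inf_le_inf_right _ (fun x ⟨k, _, hk⟩ => ⟨k, hk⟩)
  have hA'f : A' ⊓ Subgroup.centralizer (K' : Set (actGroup V)) = ⊥ := by
    rw [eq_bot_iff]
    rintro _ ⟨⟨a, ha, rfl⟩, hac⟩
    rw [Subgroup.mem_bot, actHom_eq_one_iff]
    refine hfaith a ha fun k hk => hι ?_
    rw [map_mul, map_mul]
    exact (Subgroup.mem_centralizer_iff.mp hac (ι k) ⟨k, hk, rfl⟩).symm
  have hK'odd : Odd (Nat.card K') := by rwa [hK', Subgroup.card_map_of_injective hι]
  have hT : NoTransv W A' K' := by
    rintro V' hV' _ ⟨a, ha, rfl⟩ _ ⟨kq, hkq, rfl⟩ haN hkN hinv hk1 hfaithk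
    by_contra hidx
    push Not at hidx
    obtain ⟨k₀, rfl⟩ := QuotientGroup.mk'_surjective C kq
    obtain ⟨p₀, k, hp₀, -, hpk, -, ⟨j, hj⟩, hko⟩ :=
      Lib.Transfer.PResidual.exists_pPart_mul_pPrimePart (p := 2) k₀ (isOfFinOrder_of_finite k₀)
    have hp1 : π p₀ = 1 := by
      have hmem : π p₀ ∈ K := by
        obtain ⟨i, rfl⟩ := hp₀
        rw [map_zpow]; exact K.zpow_mem hkq i
      have h1 : orderOf (π p₀) ∣ 2 ^ j := orderOf_dvd_of_pow_eq_one (by rw [← map_pow, hj, map_one])
      exact orderOf_eq_one_iff.mp (Nat.eq_one_of_dvd_coprimes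
        ((Nat.coprime_two_right.mpr hK).pow_right j)
        (Subgroup.orderOf_dvd_natCard K hmem) h1)
    have hkk : π k₀ = π k := by rw [← hpk, map_mul, hp1, one_mul]
    have hkact : ι (π k₀) = actHom V k := by rw [hkk]; rfl
    rw [hkact] at hkN hinv hk1 hfaithk
    -- back in `G`
    set V₀ : Subgroup G := (V'.comap (actEmb V)).map V.subtype with hV₀
    have hV₀V : V₀ ≤ V := Subgroup.map_subtype_le _
    have hV'eq : ∀ x ∈ V', ∃ v : V, actEmb V v = x := fun x hx => hV' hx
    have hnorm : ∀ g : G, actHom V g ∈ Subgroup.normalizer (V' : Set (actGroup V)) →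
        g ∈ Subgroup.normalizer (V₀ : Set G) := by
      intro g hg
      have : ∀ v : V, v ∈ V'.comap (actEmb V) ↔ MulAut.conjNormal g v ∈ V'.comap (actEmb V) := by
        intro v
        rw [Subgroup.mem_comap, Subgroup.mem_comap, ← actHom_conj]
        exact Subgroup.mem_normalizer_iff.mp hg _
      refine Subgroup.mem_normalizer_iff.mpr fun x => ⟨?_, ?_⟩
      · rintro ⟨v, hv, rfl⟩
        exact ⟨_, (this v).mp hv, MulAut.conjNormal_apply ..⟩
      · rintro ⟨v, hv, hveq⟩
        have hx : x ∈ V := by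
          have := (inferInstance : V.Normal).conj_mem _ v.2 g⁻¹
          rw [show (v : G) = g * x * g⁻¹ from hveq] at this
          simpa [mul_assoc] using this
        refine ⟨⟨x, hx⟩, (this ⟨x, hx⟩).mpr ?_, rfl⟩
        have heq : MulAut.conjNormal g (⟨x, hx⟩ : V) = v := by
          apply Subtype.ext
          rw [MulAut.conjNormal_apply]
          exact hveq.symm
        rw [heq]
        exact hv
    have hcard : Nat.card V₀ = Nat.card V' := by
      rw [hV₀, Subgroup.card_map_of_injective V.subtype_injective,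
        ← Subgroup.card_map_of_injective (actEmb_injective V), Subgroup.map_comap_eq]
      rw [inf_eq_right.mpr (show V' ≤ (actEmb V).range from hV')]
    have hk : k ∉ Subgroup.centralizer (V₀ : Set G) := by
      intro hk'
      apply hk1
      have := hfaithk 1 (by
        rw [pow_one]
        refine Subgroup.mem_centralizer_iff.mpr fun x hx => ?_
        obtain ⟨v, rfl⟩ := hV'eq x hx
        exact ((actHom_commute_iff V).mpr
          (Subgroup.mem_centralizer_iff.mp hk' v ⟨v, hx, rfl⟩).symm).symm)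
      rwa [pow_one] at this
    have hC₀ : ∀ g : G, g ∈ C → g ∈ Subgroup.centralizer (V₀ : Set G) := fun g hg =>
      Subgroup.centralizer_le hV₀V hg
    refine hS4 (involves_four_of_transvection (PGroups.elemAb_mono hV hV₀V) (hnorm a haN)
      (hnorm k hkN) (hC₀ _ (hAs a ha)) (Nat.coprime_two_right.mp hko) hk (hC₀ _ ?_) ?_)
    · rw [← actHom_eq_one_iff, map_mul, map_mul, map_mul, map_inv, hinv, inv_mul_cancel]
    · rw [hcard]
      refine hidx.trans (Nat.mul_le_mul_left 2 ?_)
      refine Nat.card_le_card_of_injective (fun x => ⟨(Classical.choose (hV'eq x.1 x.2.1) : V), ?_⟩) ?_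
      · have hx := Classical.choose_spec (hV'eq x.1 x.2.1)
        set v := Classical.choose (hV'eq x.1 x.2.1)
        refine mem_fixOn_zpowers.mpr ⟨⟨v, ?_, rfl⟩, ?_⟩
        · show actEmb V v ∈ V'; rw [hx]; exact x.2.1
        · have h2 := (mem_fixOn.mp x.2).2 _ (Subgroup.mem_zpowers (actHom V a))
          rw [← hx] at h2
          exact (actHom_commute_iff V).mp h2
      · intro x y hxy
        have h1 : (Classical.choose (hV'eq x.1 x.2.1) : V) = Classical.choose (hV'eq y.1 y.2.1) :=
          Subtype.ext (congrArg (fun t : fixOn V₀ (Subgroup.zpowers a) => (t : G)) hxy)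
        have h2 := congrArg (actEmb V) h1
        rw [Classical.choose_spec (hV'eq x.1 x.2.1), Classical.choose_spec (hV'eq y.1 y.2.1)] at h2
        exact Subtype.ext h2
  have hmain := card_sq_mul_fixOn_le (actV_elemAb V hV) hA'el hK'odd hA'W hK'W hA'K hK'f hA'f hT
  have hA'card : Nat.card A' = C.relIndex A := by
    rw [hA', ← hιπ, ← Subgroup.map_map, Subgroup.card_map_of_injective hι,
      ← Subgroup.relIndex_ker, QuotientGroup.ker_mk']
  rw [hA'card, card_fixOn_act] at hmain
  have hWcard : Nat.card W = Nat.card V := by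
    rw [hW, actV, MonoidHom.range_eq_map, Subgroup.card_map_of_injective SemidirectProduct.inl_injective,
      Subgroup.card_top]
  rw [hWcard, ← relIndex_centralizer_mul_card V A] at hmain
  exact Nat.le_of_mul_le_mul_right hmain Nat.card_pos

/-- `O₂(G/C(V)) = 1` gives the bound. -/
theorem sq_of_reduced [Finite G] [Group.IsSolvable G]
    (hS4 : ¬ Cfsg.Involves (Equiv.Perm (Fin 4)) G)
    (V : Subgroup G) [V.Normal] (hV : Cfsg.IsElementaryAbelian 2 V)
    (hred : Cfsg.pCore 2 (G ⧸ Subgroup.centralizer (V : Set G)) = ⊥) (A : Subgroup G)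
    (hAc : ∀ a ∈ A, ∀ b ∈ A, a * b * a⁻¹ * b⁻¹ ∈ Subgroup.centralizer (V : Set G))
    (hAs : ∀ a ∈ A, a * a ∈ Subgroup.centralizer (V : Set G)) :
    Sq V A := by
  have : Fact (Nat.Prime 2) := ⟨Nat.prime_two⟩
  set X := G ⧸ Subgroup.centralizer (V : Set G)
  have hK : Odd (Nat.card (Cfsg.pPrimeCore 2 X)) :=
    Nat.coprime_two_right.mp (Cores.pPrimeCore_coprime 2)
  refine sq_of_odd_normal hS4 V hV A hAc hAs (Cfsg.pPrimeCore 2 X) hK fun a ha hcomm => ?_
  have hcen : (QuotientGroup.mk a : X) ∈ Cfsg.pPrimeCore 2 X :=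
    centralizer_pPrimeCore_le PSolvable.isPSolvable_of_isSolvable hred
      (Subgroup.mem_centralizer_iff.mpr fun k hk => (hcomm k hk).symm)
  refine (QuotientGroup.eq_one_iff a).mp (orderOf_eq_one_iff.mp ?_)
  refine Nat.eq_one_of_dvd_coprimes (Nat.coprime_two_right.mpr hK)
    (Subgroup.orderOf_dvd_natCard _ hcen) (orderOf_dvd_of_pow_eq_one ?_)
  rw [pow_two, ← QuotientGroup.mk_mul, QuotientGroup.eq_one_iff]
  exact hAs a ha

/-- Criterion for `O₂(G/C) = 1`. -/
theorem pCore_quotient_eq_bot [Finite G] (C : Subgroup G) [C.Normal]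
    (h : ∀ D : Subgroup G, D.Normal → C ≤ D → (∃ k, C.relIndex D = 2 ^ k) → D = C) :
    Cfsg.pCore 2 (G ⧸ C) = ⊥ := by
  have : Fact (Nat.Prime 2) := ⟨Nat.prime_two⟩
  let π := QuotientGroup.mk' C
  set D := (Cfsg.pCore 2 (G ⧸ C)).comap π
  have hCD : C ≤ D := fun c hc => by
    show π c ∈ Cfsg.pCore 2 (G ⧸ C)
    rw [show π c = 1 from (QuotientGroup.eq_one_iff c).mpr hc]
    exact one_mem _
  obtain ⟨k, hk⟩ := (Cores.pCore_isPGroup (G := G ⧸ C) 2).exists_card_eq
  have hD : D = C := h D inferInstance hCD ⟨k, by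
    rw [← hk, ← Subgroup.relIndex_bot_left,
      ← Subgroup.map_comap_eq_self_of_surjective (QuotientGroup.mk'_surjective C)
        (Cfsg.pCore 2 (G ⧸ C)), ← Subgroup.relIndex_comap, MonoidHom.comap_bot, QuotientGroup.ker_mk']⟩
  rw [← Subgroup.map_comap_eq_self_of_surjective (QuotientGroup.mk'_surjective C)
    (Cfsg.pCore 2 (G ⧸ C)), Subgroup.map_eq_bot_iff, QuotientGroup.ker_mk']
  exact hD.le

/-- The bound for a group generated by submodules. -/
theorem sq_of_generated [Finite G] {ι : Type*} [Finite ι] (W : ι → Subgroup G) {V A : Subgroup G}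
    (hVW : V = ⨆ i, W i) (h : ∀ i, ∀ B ≤ A, Sq (W i) B) : Sq V A := by
  classical
  cases nonempty_fintype ι
  have key : ∀ s : Finset ι, ∀ B ≤ A, Sq (s.sup W) B := by
    intro s
    induction s using Finset.induction_on with
    | empty =>
      intro B _
      rw [Finset.sup_empty]
      have hb : B ≤ Subgroup.centralizer ((⊥ : Subgroup G) : Set G) := fun b _ =>
        Subgroup.mem_centralizer_iff.mpr fun x hx => by
          rw [SetLike.mem_coe, Subgroup.mem_bot] at hx; subst hx; simp
      rw [Sq, Subgroup.relIndex_eq_one.mpr hb, one_pow]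
      exact Nat.one_le_iff_ne_zero.mpr Subgroup.index_ne_zero_of_finite
    | insert i s hi ih =>
      intro B hB
      rw [Finset.sup_insert, sup_comm]
      set V₁ := s.sup W
      set V₂ := W i
      set B₂ := B ⊓ Subgroup.centralizer (V₁ : Set G) with hB₂
      have h1 := ih B hB
      have h2 := h i B₂ (inf_le_left.trans hB)
      have hcV : Subgroup.centralizer ((V₁ ⊔ V₂ : Subgroup G) : Set G) =
          Subgroup.centralizer (V₁ : Set G) ⊓ Subgroup.centralizer (V₂ : Set G) := by
        refine le_antisymm (le_inf (Subgroup.centralizer_le (SetLike.coe_subset_coe.mpr le_sup_left))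
          (Subgroup.centralizer_le (SetLike.coe_subset_coe.mpr le_sup_right))) ?_
        exact Subgroup.le_centralizer_iff.mp (sup_le (Subgroup.le_centralizer_iff.mp inf_le_left)
          (Subgroup.le_centralizer_iff.mp inf_le_right))
      set C := Subgroup.centralizer ((B : Subgroup G) : Set G)
      set C₂ := Subgroup.centralizer ((B₂ : Subgroup G) : Set G)
      -- left side
      have hl : (Subgroup.centralizer ((V₁ ⊔ V₂ : Subgroup G) : Set G)).relIndex B =
          (Subgroup.centralizer (V₁ : Set G)).relIndex B *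
            (Subgroup.centralizer (V₂ : Set G)).relIndex B₂ := by
        rw [hcV]
        have h3 := relIndex_mul_relIndex (B ⊓ (Subgroup.centralizer (V₁ : Set G) ⊓
          Subgroup.centralizer (V₂ : Set G))) B₂ B (le_inf inf_le_left (inf_le_right.trans inf_le_left))
          inf_le_left
        rw [inf_relIndex_left, hB₂, inf_relIndex_left] at h3
        rw [← h3, mul_comm]
        congr 1
        have h4 : B ⊓ (Subgroup.centralizer (V₁ : Set G) ⊓ Subgroup.centralizer (V₂ : Set G)) =
            B₂ ⊓ Subgroup.centralizer (V₂ : Set G) := by rw [hB₂, inf_assoc]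
        rw [h4, inf_relIndex_left, hB₂]
      -- right side
      have hr : C.relIndex V₁ * C₂.relIndex V₂ ≤ C.relIndex (V₁ ⊔ V₂) := by
        set X := V₁ ⊔ V₂ with hX
        have hC2V1 : V₁ ≤ C₂ := Subgroup.le_centralizer_iff.mp inf_le_right
        set M := V₁ ⊔ (X ⊓ C) with hM
        have hMC2 : M ≤ X ⊓ C₂ := sup_le (le_inf le_sup_left hC2V1)
          (inf_le_inf_left _ (Subgroup.centralizer_le inf_le_left))
        have h3 := relIndex_mul_relIndex (X ⊓ C) M X le_sup_right (hMC2.trans inf_le_left)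
        rw [inf_relIndex_left] at h3
        rw [← h3]
        refine Nat.mul_le_mul ?_ ?_
        · refine le_trans ?_ (Subgroup.relIndex_le_of_le_right (le_sup_left : V₁ ≤ M)
            Subgroup.index_ne_zero_of_finite)
          exact Subgroup.relIndex_le_of_le_left inf_le_right Subgroup.index_ne_zero_of_finite
        · calc C₂.relIndex V₂ ≤ C₂.relIndex X :=
                Subgroup.relIndex_le_of_le_right le_sup_right Subgroup.index_ne_zero_of_finite
            _ ≤ M.relIndex X := Subgroup.relIndex_le_of_le_left (hMC2.trans inf_le_right)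
                Subgroup.index_ne_zero_of_finite
      rw [Sq, hl, mul_pow]
      exact (Nat.mul_le_mul h1 h2).trans hr
  have := key Finset.univ A le_rfl
  rwa [Finset.sup_univ_eq_iSup, ← hVW] at this

end Cfsg.Agent.Lib.SFourFree
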