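import Cfsg.Agent.Lib.SFourFree.Normal
import Cfsg.Prelude.Def_CaseTheorems
import Cfsg.Prelude.Def_Involutions

/-!
# Maximal 2-locals of a group whose 2-locals are solvable, `Sym(4)`-free, of characteristic two

Owner: helper65.
-/

set_option autoImplicit false

namespace Cfsg.Agent.Lib.SFourFree.Locals

open Subgroup PLocal

variable {G : Type*} [Group G] [Finite G]

/-- All 2-locals are solvable, of characteristic two and `Sym(4)`-free. -/
def Hyp (G : Type*) [Group G] : Prop :=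
  ∀ M : Subgroup G, Cfsg.IsTwoLocal M → Group.IsSolvable M ∧ Cfsg.IsOfCharacteristicTwo ↥M ∧
    ¬ Cfsg.Involves (Equiv.Perm (Fin 4)) ↥M

theorem isTwoLocal_map_conj {H : Subgroup G} (h : Cfsg.IsTwoLocal H) (g : G) :
    Cfsg.IsTwoLocal (H.map (MulAut.conj g).toMonoidHom) := by
  obtain ⟨T, hT, hne, rfl⟩ := h
  refine ⟨T.map (MulAut.conj g).toMonoidHom, hT.map _, ?_, ?_⟩
  · rwa [Ne, Subgroup.map_eq_bot_iff_of_injective _ (MulAut.conj g).injective]
  · exact Subgroup.map_equiv_normalizer_eq T (MulAut.conj g)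

/-- The unique maximal 2-local containing a given Sylow 2-subgroup. -/
theorem exists_top_local (hG : Hyp G) (S : Sylow 2 G) (hne : (S : Subgroup G) ≠ ⊥) :
    ∃ M : Subgroup G, Cfsg.IsTwoLocal M ∧ (S : Subgroup G) ≤ M ∧
      ∀ H : Subgroup G, Cfsg.IsTwoLocal H → (S : Subgroup G) ≤ H → H ≤ M := by
  obtain ⟨h1, h2, h3⟩ := hG _ ⟨Cfsg.thompsonSubgroupOf 2 (S : Subgroup G),
    S.2.to_le (PGroups.thompsonSubgroupOf_le 2 _), thompsonSubgroupOf_ne_bot S.2 hne, rfl⟩
  obtain ⟨W, hWS, hW1, hSW, hall⟩ := exists_normal_subgroup S hne ⟨h1, h2, h3⟩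
  refine ⟨_, ⟨W, S.2.to_le hWS, hW1, rfl⟩, hSW, fun H hH hSH => ?_⟩
  obtain ⟨hs, hc, h4⟩ := hG H hH
  exact hall H hSH h4 hs hc

theorem exists_top_local' (hG : Hyp G) (hne : ∀ S : Sylow 2 G, (S : Subgroup G) ≠ ⊥) :
    ∃ Ms : Sylow 2 G → Subgroup G, ∀ S : Sylow 2 G, Cfsg.IsTwoLocal (Ms S) ∧
      (S : Subgroup G) ≤ Ms S ∧
      ∀ H : Subgroup G, Cfsg.IsTwoLocal H → (S : Subgroup G) ≤ H → H ≤ Ms S :=
  Classical.axiomOfChoice fun S => exists_top_local hG S (hne S)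

/-- A 2-subgroup of `H` lies in one of largest order. -/
theorem exists_largest {T H : Subgroup G} (hT : IsPGroup 2 T) (hTH : T ≤ H) :
    ∃ R : Subgroup G, T ≤ R ∧ R ≤ H ∧ IsPGroup 2 R ∧
      ∃ P : Sylow 2 H, (P : Subgroup H).map H.subtype = R := by
  obtain ⟨P, hP⟩ := (hT.comap_subtype (K := H)).exists_le_sylow
  refine ⟨(P : Subgroup H).map H.subtype, ?_, Subgroup.map_subtype_le _, P.2.map _, P, rfl⟩
  rw [← Subgroup.map_subgroupOf_eq_of_le hTH]
  exact Subgroup.map_mono hP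

/-- Normalizers grow in 2-groups. -/
theorem exists_gt_normalizer {T R : Subgroup G} (hR : IsPGroup 2 R) (hlt : T < R) :
    ∃ R₁ : Subgroup G, T < R₁ ∧ R₁ ≤ R ∧ R₁ ≤ Subgroup.normalizer (T : Set G) := by
  have : Fact (Nat.Prime 2) := ⟨Nat.prime_two⟩
  refine ⟨R ⊓ Subgroup.normalizer (T : Set G), ?_, inf_le_left, inf_le_right⟩
  refine lt_of_le_of_ne (le_inf hlt.le Subgroup.le_normalizer) fun he => ?_
  have : Group.IsNilpotent R := hR.isNilpotent
  have hlt' : T.subgroupOf R < ⊤ := lt_of_le_of_ne le_top fun h =>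
    hlt.not_ge (Subgroup.subgroupOf_eq_top.mp h)
  refine absurd ?_ (not_le_of_gt (Group.normalizerCondition_of_isNilpotent (G := R) _ hlt'))
  intro x hx
  have h := Subgroup.le_normalizer_map R.subtype (Subgroup.mem_map_of_mem R.subtype hx)
  rw [Subgroup.map_subgroupOf_eq_of_le hlt.le] at h
  exact (he.symm ▸ (⟨x.2, h⟩ : (x : G) ∈ R ⊓ Subgroup.normalizer (T : Set G)) : (x : G) ∈ T)

variable {Ms : Sylow 2 G → Subgroup G}

/-- The defining property of `Ms`. -/
def IsTop (Ms : Sylow 2 G → Subgroup G) : Prop :=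
  ∀ S : Sylow 2 G, Cfsg.IsTwoLocal (Ms S) ∧ (S : Subgroup G) ≤ Ms S ∧
    ∀ H : Subgroup G, Cfsg.IsTwoLocal H → (S : Subgroup G) ≤ H → H ≤ Ms S

theorem IsTop.card_eq (hM : IsTop Ms) (S S' : Sylow 2 G) :
    Nat.card (Ms S) = Nat.card (Ms S') := by
  have : Fact (Nat.Prime 2) := ⟨Nat.prime_two⟩
  have key : ∀ S S' : Sylow 2 G, Nat.card (Ms S) ≤ Nat.card (Ms S') := by
    intro S S'
    obtain ⟨g, hg⟩ := MulAction.exists_smul_eq G S S'
    have hS' : (S' : Subgroup G) ≤ (Ms S).map (MulAut.conj g).toMonoidHom := by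
      rw [← hg, Sylow.coe_subgroup_smul, Subgroup.pointwise_smul_def]
      exact Subgroup.map_mono (hM S).2.1
    have h := (hM S').2.2 _ (isTwoLocal_map_conj (hM S).1 g) hS'
    have h2 := Subgroup.card_le_of_le h
    rwa [Subgroup.card_map_of_injective (MulAut.conj g).injective] at h2
  exact le_antisymm (key S S') (key S' S)

theorem IsTop.eq_of_le (hM : IsTop Ms) {S S' : Sylow 2 G} (h : (S' : Subgroup G) ≤ Ms S) :
    Ms S = Ms S' :=
  Subgroup.eq_of_le_of_card_ge ((hM S').2.2 _ (hM S).1 h) (hM.card_eq S' S).le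

theorem IsTop.main (hG : Hyp G) (hM : IsTop Ms) (T : Subgroup G) (hT : IsPGroup 2 T) (hne : T ≠ ⊥) :
    (∀ S₁ S₂ : Sylow 2 G, T ≤ Ms S₁ → T ≤ Ms S₂ → Ms S₁ = Ms S₂) ∧
    ∀ H : Subgroup G, Cfsg.IsTwoLocal H →
      (∃ P : Sylow 2 H, (P : Subgroup H).map H.subtype = T) → ∃ S : Sylow 2 G, H ≤ Ms S := by
  have : Fact (Nat.Prime 2) := ⟨Nat.prime_two⟩
  induction hm : Nat.card G - Nat.card T using Nat.strong_induction_on generalizing T with
  | _ m ih =>
    subst hm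
    have hrec : ∀ T' : Subgroup G, IsPGroup 2 T' → T < T' →
        (∀ S₁ S₂ : Sylow 2 G, T' ≤ Ms S₁ → T' ≤ Ms S₂ → Ms S₁ = Ms S₂) ∧
        (∀ H : Subgroup G, Cfsg.IsTwoLocal H → T' ≤ H → ∃ S : Sylow 2 G, H ≤ Ms S) := by
      intro T' hT' hlt
      have hlt' : Nat.card T < Nat.card T' := by
        refine lt_of_le_of_ne (Subgroup.card_le_of_le hlt.le) fun h => ?_
        exact hlt.ne (Subgroup.eq_of_le_of_card_ge hlt.le h.ge)
      have hle : ∀ X : Subgroup G, Nat.card X ≤ Nat.card G := fun X => Subgroup.card_le_card_group X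
      have hne' : T' ≠ ⊥ := fun h => hne (le_bot_iff.mp (hlt.le.trans h.le))
      refine ⟨(ih _ (by have := hle T'; omega) T' hT' hne' rfl).1, fun H hH hT'H => ?_⟩
      obtain ⟨R, hT'R, hRH, hR, hP⟩ := exists_largest hT' hT'H
      have hcR := Subgroup.card_le_of_le hT'R
      have hneR : R ≠ ⊥ := fun h => hne' (le_bot_iff.mp (hT'R.trans h.le))
      exact (ih _ (by have := hle R; omega) R hR hneR rfl).2 H hH hP
    obtain ⟨S₀, hTS⟩ := hT.exists_le_sylow
    rcases eq_or_lt_of_le hTS with hEq | hlt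
    · -- `T` is a Sylow 2-subgroup
      refine ⟨fun S₁ S₂ h1 h2 => ?_, fun H hH hP => ⟨S₀, (hM S₀).2.2 H hH ?_⟩⟩
      · rw [hM.eq_of_le (S := S₁) (S' := S₀) (hEq ▸ h1), hM.eq_of_le (S := S₂) (S' := S₀) (hEq ▸ h2)]
      · obtain ⟨P, hP⟩ := hP
        rw [← hEq, ← hP]; exact Subgroup.map_subtype_le _
    have hsyl : ∀ (S' : Sylow 2 G), Nat.card T < Nat.card (S' : Subgroup G) := fun S' => by
      rw [Sylow.card_eq_multiplicity, ← Sylow.card_eq_multiplicity S₀]
      refine lt_of_le_of_ne (Subgroup.card_le_of_le hlt.le) fun h => ?_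
      exact hlt.ne (Subgroup.eq_of_le_of_card_ge hlt.le h.ge)
    constructor
    · intro S₁ S₂ h1 h2
      have hN : Cfsg.IsTwoLocal (Subgroup.normalizer (T : Set G)) := ⟨T, hT, hne, rfl⟩
      have hgrow : ∀ S : Sylow 2 G, T ≤ Ms S →
          ∃ T' : Subgroup G, IsPGroup 2 T' ∧ T < T' ∧ T' ≤ Ms S ∧
            T' ≤ Subgroup.normalizer (T : Set G) := by
        intro S hS
        obtain ⟨R, hTR, hRM, hR, P, hP⟩ := exists_largest hT hS
        have hcard : Nat.card (S : Subgroup G) ≤ Nat.card R := by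
          rw [← hP, Subgroup.card_map_of_injective (Ms S).subtype_injective]
          have e : Nat.card (S : Subgroup G) = Nat.card (S.subtype (hM S).2.1 : Subgroup (Ms S)) := by
            rw [Sylow.coe_subtype, Nat.card_congr (Subgroup.subgroupOfEquivOfLe (hM S).2.1).toEquiv]
          rw [e, Sylow.card_eq_multiplicity, ← Sylow.card_eq_multiplicity P]
        have hltR : T < R := lt_of_le_of_ne hTR fun h => by
          have := hsyl S
          rw [h] at this
          omega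
        obtain ⟨R₁, hTR₁, hR₁R, hR₁N⟩ := exists_gt_normalizer hR hltR
        exact ⟨R₁, hR.to_le hR₁R, hTR₁, hR₁R.trans hRM, hR₁N⟩
      obtain ⟨T₁, hT₁, hlt₁, hT₁M, hT₁N⟩ := hgrow S₁ h1
      obtain ⟨T₂, hT₂, hlt₂, hT₂M, hT₂N⟩ := hgrow S₂ h2
      obtain ⟨S₃, hS₃⟩ := (hrec T₁ hT₁ hlt₁).2 _ hN hT₁N
      rw [(hrec T₁ hT₁ hlt₁).1 S₁ S₃ hT₁M (hT₁N.trans hS₃),
        (hrec T₂ hT₂ hlt₂).1 S₂ S₃ hT₂M (hT₂N.trans hS₃)]
    · intro H hH hP
      obtain ⟨P, hP⟩ := hP
      obtain ⟨T', hlt', hT'S, hT'N⟩ := exists_gt_normalizer S₀.2 hlt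
      have hT' : IsPGroup 2 T' := S₀.2.to_le hT'S
      set Z := omegaCenterOf 2 T
      set J := Cfsg.thompsonSubgroupOf 2 T
      have hNZ : Cfsg.IsTwoLocal (Subgroup.normalizer (Z : Set G)) :=
        ⟨Z, hT.to_le (omegaCenterOf_le T), omegaCenterOf_ne_bot hT hne, rfl⟩
      have hNJ : Cfsg.IsTwoLocal (Subgroup.normalizer (J : Set G)) :=
        ⟨J, hT.to_le (PGroups.thompsonSubgroupOf_le 2 T), thompsonSubgroupOf_ne_bot hT hne, rfl⟩
      have hT'Z : T' ≤ Subgroup.normalizer (Z : Set G) := fun x hx => by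
        rw [Subgroup.mem_normalizer_iff_map_conj_eq]
        rw [map_omegaCenterOf _ (MulAut.conj x).injective]
        congr 1
        exact Subgroup.mem_normalizer_iff_map_conj_eq.mp (hT'N hx)
      have hT'J : T' ≤ Subgroup.normalizer (J : Set G) :=
        hT'N.trans (PGroups.normalizer_le_normalizer_thompson T)
      obtain ⟨S₃, hS₃⟩ := (hrec T' hT' hlt').2 _ hNZ hT'Z
      obtain ⟨S₄, hS₄⟩ := (hrec T' hT' hlt').2 _ hNJ hT'J
      have heq := (hrec T' hT' hlt').1 S₃ S₄ (hT'Z.trans hS₃) (hT'J.trans hS₄)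
      refine ⟨S₃, fun x hx => ?_⟩
      obtain ⟨hs, hc, h4⟩ := hG H hH
      have := hs
      obtain ⟨c, hcc, n, hn, hxe⟩ := exists_factorization h4 hc P ⟨x, hx⟩
      have hx' : x = (c : G) * n := congrArg Subtype.val hxe
      rw [hx']
      refine mul_mem (hS₃ (Subgroup.centralizer_le_normalizer _ ?_)) ?_
      · have h := Subgroup.mem_centralizer_iff.mp hcc
        refine Subgroup.mem_centralizer_iff.mpr fun z hz => ?_
        rw [SetLike.mem_coe, show Z = omegaCenterOf 2 T from rfl, ← hP,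
          ← map_omegaCenterOf _ H.subtype_injective] at hz
        obtain ⟨z', hz', rfl⟩ := hz
        exact congrArg Subtype.val (h z' hz')
      · rw [heq]
        refine hS₄ ?_
        have h := Subgroup.le_normalizer_map H.subtype (Subgroup.mem_map_of_mem H.subtype hn)
        rwa [PGroups.map_thompsonSubgroupOf _ H.subtype_injective, hP] at h

/-- Every 2-local lies in one of the `Ms S`. -/
theorem IsTop.exists_ge (hG : Hyp G) (hM : IsTop Ms) {H : Subgroup G} (hH : Cfsg.IsTwoLocal H) :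
    ∃ S : Sylow 2 G, H ≤ Ms S := by
  obtain ⟨T, hT, hne, hHT⟩ := hH
  have hTH : T ≤ H := hHT ▸ Subgroup.le_normalizer
  obtain ⟨R, hTR, -, hR, hP⟩ := exists_largest hT hTH
  exact (hM.main hG R hR fun h => hne (le_bot_iff.mp (hTR.trans h.le))).2 H ⟨T, hT, hne, hHT⟩ hP

theorem isStronglyEmbedded (hG : Hyp G) (heven : Even (Nat.card G))
    (hO : Cfsg.pCore 2 G = ⊥) {M : Subgroup G} (hMax : Cfsg.IsMaximalTwoLocal M) :
    Cfsg.IsStronglyEmbedded M := by
  have : Fact (Nat.Prime 2) := ⟨Nat.prime_two⟩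
  have hne : ∀ S : Sylow 2 G, (S : Subgroup G) ≠ ⊥ := fun S =>
    S.ne_bot_of_dvd_card (even_iff_two_dvd.mp heven)
  obtain ⟨Ms, hM⟩ := exists_top_local' hG hne
  have hM : IsTop Ms := hM
  obtain ⟨S, hS⟩ := hM.exists_ge hG hMax.1
  have hMS : M = Ms S := (hMax.2 _ (hM S).1 hS).symm
  subst hMS
  obtain ⟨T, hT, hT1, hTM⟩ := hMax.1
  refine ⟨?_, ?_, fun g hg => ?_⟩
  · intro htop
    have hn : T.Normal := Subgroup.normalizer_eq_top_iff.mp (hTM.symm.trans htop)
    exact hT1 (le_bot_iff.mp (hO ▸ Cores.le_pCore hT))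
  · rw [even_iff_two_dvd]
    obtain ⟨j, hj⟩ := S.2.exists_card_eq
    refine dvd_trans ?_ (Subgroup.card_dvd_of_le (hM S).2.1)
    rw [hj]
    refine dvd_pow_self 2 fun h => hne S (Subgroup.eq_bot_of_card_eq _ (by rw [hj, h, pow_zero]))
  · rw [← Nat.not_even_iff_odd, even_iff_two_dvd]
    intro hdvd
    set Ms' := (Ms S).map (MulAut.conj g).toMonoidHom with hMs'
    obtain ⟨x, hx⟩ := exists_prime_orderOf_dvd_card' (G := ↥(Ms S ⊓ Ms')) 2 hdvd
    have hx2 : orderOf (x : G) = 2 := by rwa [Subgroup.orderOf_coe]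
    obtain ⟨S', hS'⟩ : ∃ S' : Sylow 2 G, Ms' ≤ Ms S' := hM.exists_ge hG (isTwoLocal_map_conj (hM S).1 g)
    have hZ : IsPGroup 2 (Subgroup.zpowers (x : G)) :=
      IsPGroup.of_card (n := 1) (by rw [Nat.card_zpowers, hx2, pow_one])
    have hZ1 : Subgroup.zpowers (x : G) ≠ ⊥ := by
      rw [Ne, Subgroup.zpowers_eq_bot]
      intro h
      rw [h, orderOf_one] at hx2
      omega
    have heq : Ms S = Ms S' := (hM.main hG _ hZ hZ1).1 S S'
      (Subgroup.zpowers_le.mpr x.2.1) (Subgroup.zpowers_le.mpr (hS' x.2.2))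
    rw [← heq] at hS'
    -- `g` normalizes `M`
    obtain ⟨R, hR⟩ : ∃ R : Sylow 2 G, (R : Subgroup G) = (S : Subgroup G).map (MulAut.conj g).toMonoidHom :=
      ⟨g • S, by rw [Sylow.coe_subgroup_smul, Subgroup.pointwise_smul_def]; rfl⟩
    have hRM : (R : Subgroup G) ≤ Ms S := hR ▸ (Subgroup.map_mono (hM S).2.1).trans hS'
    obtain ⟨m, hm⟩ := MulAction.exists_smul_eq ↥(Ms S) (R.subtype hRM) (S.subtype (hM S).2.1)
    have hmR : (R : Subgroup G).map (MulAut.conj (m : G)).toMonoidHom = (S : Subgroup G) := by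
      refine Subgroup.eq_of_le_of_card_ge ?_ ?_
      · rintro _ ⟨r, hr, rfl⟩
        have h1 : MulAut.conj m (⟨r, hRM hr⟩ : ↥(Ms S)) ∈
            ((m • R.subtype hRM : Sylow 2 ↥(Ms S)) : Subgroup ↥(Ms S)) := by
          rw [Sylow.coe_subgroup_smul, Subgroup.pointwise_smul_def]
          exact Subgroup.mem_map_of_mem _ (by rw [Sylow.coe_subtype]; exact hr)
        rw [hm, Sylow.coe_subtype, Subgroup.mem_subgroupOf] at h1
        exact h1
      · rw [Subgroup.card_map_of_injective (MulAut.conj (m : G)).injective,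
          Sylow.card_eq_multiplicity, Sylow.card_eq_multiplicity]
    have hmg : (m : G) * g ∈ Subgroup.normalizer ((S : Subgroup G) : Set G) := by
      rw [Subgroup.mem_normalizer_iff_map_conj_eq]
      conv_rhs => rw [← hmR, hR, Subgroup.map_map]
      congr 1
      ext z
      simp [mul_assoc]
    have hNS := (hM S).2.2 _ ⟨(S : Subgroup G), S.2, hne S, rfl⟩ Subgroup.le_normalizer hmg
    exact hg (by simpa using mul_mem (inv_mem m.2) hNS)

end Cfsg.Agent.Lib.SFourFree.Locals
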