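import Cfsg.Agent.Lib.SFourFree.Transvection
import Cfsg.Agent.Lib.PLocal.CoprimeGen

/-!
# Elementary abelian 2-groups acting without transvections

If the elementary abelian 2-group `A` acts faithfully on a group `K` of odd order, both acting on an
elementary abelian 2-group `V` (`K` faithfully), and no element of `A` induces a transvection inverting
a nontrivial element of `K`, then `|A|² ≤ |V : C_V(A)|`.

Owner: helper65.
-/

set_option autoImplicit false

namespace Cfsg.Agent.Lib.SFourFree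

open Subgroup PLocal

variable {G : Type*} [Group G]

/-- `|A : C_A(V)|² ≤ |V : C_V(A)|`. -/
def Sq (V A : Subgroup G) : Prop :=
  (Subgroup.centralizer (V : Set G)).relIndex A ^ 2 ≤ (Subgroup.centralizer (A : Set G)).relIndex V

/-- No transvection of `A` on an invariant subgroup of `V` inverts a nontrivial element of `K`. -/
def NoTransv (V A K : Subgroup G) : Prop :=
  ∀ V' : Subgroup G, V' ≤ V → ∀ a ∈ A, ∀ k ∈ K, a ∈ Subgroup.normalizer (V' : Set G) →
    k ∈ Subgroup.normalizer (V' : Set G) → a * k * a⁻¹ = k⁻¹ → k ≠ 1 →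
    (∀ j : ℕ, k ^ j ∈ Subgroup.centralizer (V' : Set G) → k ^ j = 1) →
    2 * Nat.card (fixOn V' (Subgroup.zpowers a)) < Nat.card V'

theorem mem_fixOn_zpowers {V : Subgroup G} {a v : G} :
    v ∈ fixOn V (Subgroup.zpowers a) ↔ v ∈ V ∧ a * v = v * a := by
  rw [mem_fixOn]
  refine and_congr_right fun _ => ⟨fun h => h a (Subgroup.mem_zpowers a), fun h x hx => ?_⟩
  obtain ⟨n, rfl⟩ := hx
  exact ((show Commute a v from h).zpow_left n).eq

/-- An element of `A` and a complementary hyperplane acting faithfully on its centraliser in `K`. -/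
theorem exists_split [Finite G] {A K : Subgroup G} (hA : Cfsg.IsElementaryAbelian 2 A)
    (hAK : A ≤ Subgroup.normalizer (K : Set G)) (hK : Odd (Nat.card K))
    (hf : A ⊓ Subgroup.centralizer (K : Set G) = ⊥) (hne : A ≠ ⊥) :
    ∃ (a : G) (B : Subgroup G) (y : G), a ∈ A ∧ a ≠ 1 ∧ B ≤ A ∧
      A = B ⊔ Subgroup.zpowers a ∧ Nat.card A = 2 * Nat.card B ∧
      B ⊓ Subgroup.centralizer ((fixOn K (Subgroup.zpowers a) : Subgroup G) : Set G) = ⊥ ∧
      y ∈ fixOn K B ∧ y ≠ 1 ∧ a * y * a⁻¹ = y⁻¹ := by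
  classical
  haveI : Fact (Nat.Prime 2) := ⟨Nat.prime_two⟩
  set 𝓑 : Set (Subgroup G) :=
    {B | B ≤ A ∧ B.relIndex A = 2 ∧ ¬ fixOn K B ≤ Subgroup.centralizer (A : Set G)} with h𝓑
  have hall : ∀ x ∈ A, (∀ B ∈ 𝓑, x ∈ B) → x = 1 := by
    intro x hx hxB
    have hKx : K ≤ Subgroup.centralizer ({x} : Set G) := by
      refine (le_iSup_fixOn_hyperplane (p := 2) hA hAK (Nat.coprime_two_right.mpr hK)).trans
        (iSup_le fun B => fun z hz => ?_)
      rw [Subgroup.mem_centralizer_singleton_iff]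
      obtain ⟨B, hBA, hBi⟩ := B
      have h0 : B.relIndex A ≠ 0 := Subgroup.index_ne_zero_of_finite (H := B.subgroupOf A)
      rcases Nat.lt_or_ge (B.relIndex A) 2 with h1 | h2
      · have : A ≤ B := Subgroup.relIndex_eq_one.mp (by omega)
        exact ((mem_fixOn.mp hz).2 x (this hx)).symm
      · by_cases hB : B ∈ 𝓑
        · exact ((mem_fixOn.mp hz).2 x (hxB B hB)).symm
        · have hle : fixOn K B ≤ Subgroup.centralizer (A : Set G) := by
            by_contra h
            exact hB ⟨hBA, le_antisymm hBi h2, h⟩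
          exact (Subgroup.mem_centralizer_iff.mp (hle hz) x hx).symm
    have : x ∈ A ⊓ Subgroup.centralizer (K : Set G) := ⟨hx, Subgroup.mem_centralizer_iff.mpr
      fun z hz => Subgroup.mem_centralizer_singleton_iff.mp (hKx hz)⟩
    rwa [hf, Subgroup.mem_bot] at this
  -- a smallest nontrivial intersection
  set 𝓘 : Set (Subgroup G) := {I | ∃ F ⊆ 𝓑, I = A ⊓ sInf F ∧ I ≠ ⊥} with h𝓘
  obtain ⟨I, hI, hmin⟩ := Set.exists_min_image 𝓘 (fun I => Nat.card I) (Set.toFinite _)
    ⟨A, ∅, Set.empty_subset _, by simp, hne⟩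
  obtain ⟨F, hF, hIeq, hIne⟩ := hI
  obtain ⟨a, haI, ha1⟩ := (Subgroup.bot_or_exists_ne_one I).resolve_left hIne
  have haA : a ∈ A := (hIeq ▸ haI : a ∈ A ⊓ sInf F).1
  have hmin' : ∀ B ∈ 𝓑, I ⊓ B ≠ ⊥ → I ≤ B := by
    intro B hB hne'
    have hmem : I ⊓ B ∈ 𝓘 := by
      refine ⟨insert B F, Set.insert_subset hB hF, ?_, hne'⟩
      rw [hIeq, sInf_insert, inf_assoc, inf_comm (sInf F) B]
    have := Subgroup.eq_of_le_of_card_ge (inf_le_left : I ⊓ B ≤ I) (hmin _ hmem)
    exact inf_eq_left.mp this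
  obtain ⟨B₁, hB₁, haB₁⟩ : ∃ B ∈ 𝓑, a ∉ B := by
    by_contra h
    push Not at h
    exact ha1 (hall a haA h)
  have hIB : I ⊓ B₁ = ⊥ := by
    by_contra h
    exact haB₁ (hmin' B₁ hB₁ h haI)
  have hAp : IsPGroup 2 A := PGroups.elemAb_isPGroup hA
  have hcard : Nat.card A = 2 * Nat.card B₁ := by
    have h := B₁.subgroupOf A |>.index_mul_card
    rw [Nat.card_congr (Subgroup.subgroupOfEquivOfLe hB₁.1).toEquiv] at h
    rw [← h]
    exact congrArg (· * _) hB₁.2.1
  have hgen : A = B₁ ⊔ Subgroup.zpowers a := by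
    refine (Subgroup.eq_of_le_of_card_ge (sup_le hB₁.1 (Subgroup.zpowers_le.mpr haA)) ?_).symm
    have := PGroups.card_mul_le_card_of_mem (p := 2) (le_sup_left : B₁ ≤ B₁ ⊔ Subgroup.zpowers a)
      (hAp.to_le (sup_le hB₁.1 (Subgroup.zpowers_le.mpr haA)))
      (Subgroup.mem_sup_right (Subgroup.mem_zpowers a)) haB₁
    rw [hcard]; linarith
  obtain ⟨k, hk, hkA⟩ := SetLike.not_le_iff_exists.mp hB₁.2.2
  refine ⟨a, B₁, k⁻¹ * (a * k * a⁻¹), haA, ha1, hB₁.1, hgen, hcard, ?_, ?_, ?_, ?_⟩
  · rw [eq_bot_iff]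
    rintro x ⟨hxB, hxC⟩
    have hxA : x ∈ A := hB₁.1 hxB
    have hxall : ∀ B ∈ 𝓑, a ∈ B → x ∈ B := by
      intro B hB haB
      by_contra hxn
      have hgenB : A = B ⊔ Subgroup.zpowers x := by
        refine (Subgroup.eq_of_le_of_card_ge (sup_le hB.1 (Subgroup.zpowers_le.mpr hxA)) ?_).symm
        have h1 := PGroups.card_mul_le_card_of_mem (p := 2) (le_sup_left : B ≤ B ⊔ Subgroup.zpowers x)
          (hAp.to_le (sup_le hB.1 (Subgroup.zpowers_le.mpr hxA)))
          (Subgroup.mem_sup_right (Subgroup.mem_zpowers x)) hxn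
        have h2 := B.subgroupOf A |>.index_mul_card
        rw [Nat.card_congr (Subgroup.subgroupOfEquivOfLe hB.1).toEquiv,
          show (B.subgroupOf A).index = B.relIndex A from rfl, hB.2.1] at h2
        rw [← h2]; linarith
      refine hB.2.2 fun z hz => ?_
      have hzx : z ∈ Subgroup.centralizer ((Subgroup.zpowers x : Subgroup G) : Set G) := by
        have hza : z ∈ fixOn K (Subgroup.zpowers a) :=
          fixOn_anti (Subgroup.zpowers_le.mpr haB) hz
        have hxz := Subgroup.mem_centralizer_iff.mp hxC z hza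
        refine Subgroup.mem_centralizer_iff.mpr fun w hw => ?_
        obtain ⟨n, rfl⟩ := hw
        exact ((show Commute x z from hxz.symm).zpow_left n).eq
      rw [hgenB]
      have hz2 : z ∈ fixOn K B ⊓ fixOn K (Subgroup.zpowers x) := ⟨hz, hz.1, hzx⟩
      rw [← fixOn_sup] at hz2
      exact hz2.2
    have hxI : x ∈ I := by
      rw [hIeq]
      refine ⟨hxA, Subgroup.mem_sInf.mpr fun B hB => hxall B (hF hB) ?_⟩
      exact Subgroup.mem_sInf.mp (hIeq ▸ haI : a ∈ A ⊓ sInf F).2 B hB
    rw [← hIB]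
    exact ⟨hxI, hxB⟩
  · have han : a ∈ Subgroup.normalizer ((fixOn K B₁ : Subgroup G) : Set G) :=
      normalizer_inf_le_normalizer_fixOn ⟨hAK haA, Subgroup.centralizer_le_normalizer _
        (Subgroup.mem_centralizer_iff.mpr fun b hb => PGroups.elemAb_comm hA (hB₁.1 hb) haA)⟩
    exact mul_mem (inv_mem hk) ((Subgroup.mem_normalizer_iff.mp han k).mp hk)
  · intro h
    refine hkA (Subgroup.mem_centralizer_iff.mpr fun z hz => ?_)
    rw [inv_mul_eq_one] at h
    have hka : Commute k a := (eq_mul_inv_iff_mul_eq.mp h)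
    rw [hgen] at hz
    have : B₁ ⊔ Subgroup.zpowers a ≤ Subgroup.centralizer ({k} : Set G) := by
      refine sup_le (fun b hb => Subgroup.mem_centralizer_singleton_iff.mpr ((mem_fixOn.mp hk).2 b hb))
        (Subgroup.zpowers_le.mpr (Subgroup.mem_centralizer_singleton_iff.mpr hka.symm.eq))
    exact Subgroup.mem_centralizer_singleton_iff.mp (this hz)
  · have haa : a * a = 1 := by rw [← pow_two]; exact hA.2 a haA
    have hai : a⁻¹ = a := inv_eq_of_mul_eq_one_right haa
    rw [mul_inv_rev, mul_inv_rev, mul_inv_rev, inv_inv, inv_inv, hai]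
    calc a * (k⁻¹ * (a * k * a)) * a = a * k⁻¹ * a * k * (a * a) := by group
      _ = a * (k⁻¹ * a) * k := by rw [haa, mul_one]; group

/-- An element of `K` centralised by no nontrivial element of `A`. -/
theorem exists_fixFree [Finite G] {A K : Subgroup G} (hA : Cfsg.IsElementaryAbelian 2 A)
    (hAK : A ≤ Subgroup.normalizer (K : Set G)) (hK : Odd (Nat.card K))
    (hf : A ⊓ Subgroup.centralizer (K : Set G) = ⊥) :
    ∃ g ∈ K, ∀ x ∈ A, x * g = g * x → x = 1 := by
  induction hn : Nat.card A using Nat.strong_induction_on generalizing A K with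
  | _ n ih =>
    subst hn
    by_cases hne : A = ⊥
    · exact ⟨1, one_mem _, fun x hx _ => by rwa [hne, Subgroup.mem_bot] at hx⟩
    obtain ⟨a, B, y, haA, ha1, hBA, hgen, hcard, hBf, hy, hy1, hay⟩ := exists_split hA hAK hK hf hne
    have hBpos : 0 < Nat.card B := Nat.card_pos
    obtain ⟨g', hg', hfree⟩ := ih (Nat.card B) (by omega) (PGroups.elemAb_mono hA hBA)
      (fun b hb => normalizer_inf_le_normalizer_fixOn ⟨hAK (hBA hb),
        Subgroup.centralizer_le_normalizer _ (Subgroup.mem_centralizer_iff.mpr fun z hz => by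
          obtain ⟨m, rfl⟩ := hz
          exact ((show Commute a b from PGroups.elemAb_comm hA haA (hBA hb)).zpow_left m).eq)⟩)
      (hK.of_dvd_nat (Subgroup.card_dvd_of_le fixOn_le)) hBf rfl
    refine ⟨g' * y, mul_mem hg'.1 hy.1, fun x hx hcomm => ?_⟩
    have hag : a * g' = g' * a := (mem_fixOn_zpowers.mp hg').2
    have haa : a * a = 1 := by rw [← pow_two]; exact hA.2 a haA
    obtain ⟨b, hb, z, hz, rfl⟩ : ∃ b ∈ B, ∃ z ∈ Subgroup.zpowers a, b * z = x := by
      have hn : Subgroup.zpowers a ≤ Subgroup.normalizer (B : Set G) :=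
        (Subgroup.zpowers_le.mpr haA).trans fun t ht => Subgroup.centralizer_le_normalizer _
          (Subgroup.mem_centralizer_iff.mpr fun b hb => PGroups.elemAb_comm hA (hBA hb) ht)
      have hx' : x ∈ ((B ⊔ Subgroup.zpowers a : Subgroup G) : Set G) := by rw [← hgen]; exact hx
      rw [Subgroup.coe_mul_of_right_le_normalizer_left B _ hn] at hx'
      exact hx'
    have hby : b * y = y * b := (mem_fixOn.mp hy).2 b hb
    obtain ⟨m, hm⟩ := hz
    have hz2 : z = 1 ∨ z = a := by
      rcases Int.even_or_odd m with ⟨j, rfl⟩ | ⟨j, rfl⟩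
      · left; rw [← hm]; simp only; rw [zpow_add, ← (Commute.refl a).mul_zpow, haa, one_zpow]
      · right; rw [← hm]; simp only
        rw [zpow_add_one, two_mul, zpow_add, ← (Commute.refl a).mul_zpow, haa, one_zpow, one_mul]
    rcases hz2 with hz2 | hz2 <;> rw [hz2] at hcomm ⊢
    · rw [mul_one] at hcomm ⊢
      refine hfree b hb (mul_right_cancel (b := y) ?_)
      calc b * g' * y = g' * y * b := by rw [← hcomm]; group
        _ = g' * b * y := by rw [mul_assoc g' y b, ← hby, ← mul_assoc]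
    · exfalso
      have haya : a * y = y⁻¹ * a := mul_inv_eq_iff_eq_mul.mp hay
      have h1 : b * (g' * y⁻¹) = g' * y * b := by
        refine mul_right_cancel (b := a) ?_
        calc b * (g' * y⁻¹) * a = b * (g' * (a * y)) := by rw [haya]; group
          _ = b * a * (g' * y) := by rw [← mul_assoc g' a y, ← hag]; group
          _ = g' * y * b * a := by rw [hcomm]; group
      have h2 : b * g' = g' * (y * y) * b := by
        calc b * g' = b * (g' * y⁻¹) * y := by group
          _ = g' * y * (b * y) := by rw [h1]; group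
          _ = g' * (y * y) * b := by rw [hby]; group
      have h3 : y * y = g'⁻¹ * (b * g' * b⁻¹) := by rw [h2]; group
      have h4 : a * (y * y) * a⁻¹ = y * y := by
        have hab : Commute a b := PGroups.elemAb_comm hA haA (hBA hb)
        have hag' : Commute a g' := hag
        have : Commute a (y * y) := by
          rw [h3]; exact hag'.inv_right.mul_right ((hab.mul_right hag').mul_right hab.inv_right)
        rw [this.eq, mul_inv_cancel_right]
      have h5 : y ^ 4 = 1 := by
        have h6 : a * (y * y) * a⁻¹ = y⁻¹ * y⁻¹ := by rw [← hay]; group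
        rw [h4] at h6
        calc y ^ 4 = (y * y) * (y * y) := by rw [pow_succ, pow_succ, pow_two]; group
          _ = 1 := by nth_rewrite 1 [h6]; group
      have hyodd : Odd (orderOf y) := hK.of_dvd_nat (Subgroup.orderOf_dvd_natCard K hy.1)
      exact hy1 (orderOf_eq_one_iff.mp
        ((Nat.Coprime.pow_right 2 (Nat.coprime_two_right.mpr hyodd)).eq_one_of_dvd
          (orderOf_dvd_of_pow_eq_one h5)))

/-- The basic inequality. -/
theorem card_sq_mul_fixOn_le [Finite G] {V A K : Subgroup G} (hV : Cfsg.IsElementaryAbelian 2 V)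
    (hA : Cfsg.IsElementaryAbelian 2 A) (hK : Odd (Nat.card K))
    (hAV : A ≤ Subgroup.normalizer (V : Set G)) (hKV : K ≤ Subgroup.normalizer (V : Set G))
    (hAK : A ≤ Subgroup.normalizer (K : Set G))
    (hKf : K ⊓ Subgroup.centralizer (V : Set G) = ⊥)
    (hf : A ⊓ Subgroup.centralizer (K : Set G) = ⊥) (hT : NoTransv V A K) :
    Nat.card A ^ 2 * Nat.card (fixOn V A) ≤ Nat.card V := by
  haveI : Fact (Nat.Prime 2) := ⟨Nat.prime_two⟩
  induction hn : Nat.card A using Nat.strong_induction_on generalizing A K V with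
  | _ n ih =>
    subst hn
    by_cases hne : A = ⊥
    · subst hne
      rw [Subgroup.card_bot, one_pow, one_mul]
      exact Subgroup.card_le_of_le fixOn_le
    obtain ⟨a, B, y, haA, ha1, hBA, hgen, hcard, hBf, hy, hy1, hay⟩ := exists_split hA hAK hK hf hne
    set V' := fixOn V (Subgroup.zpowers a) with hV'
    set K' := fixOn K (Subgroup.zpowers a) with hK'
    have hpow : ∀ {U : Subgroup G} {g : G}, ∀ hU : U ≤ K, g ∈ U → Odd (orderOf g) :=
      fun hU hg => hK.of_dvd_nat ((Subgroup.orderOf_dvd_natCard _ hg).trans (Subgroup.card_dvd_of_le hU))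
    -- the index of `C_V(a)` is at least four
    have h4 : 4 * Nat.card V' ≤ Nat.card V := by
      have hlt := hT V le_rfl a haA y hy.1 (hAV haA) (hKV hy.1) hay hy1 fun j hj => by
        have : y ^ j ∈ K ⊓ Subgroup.centralizer (V : Set G) := ⟨K.pow_mem hy.1 j, hj⟩
        rwa [hKf, Subgroup.mem_bot] at this
      obtain ⟨i, hi⟩ := PGroups.elemAb_card_eq_pow (p := 2) hV
      obtain ⟨j, hj⟩ := PGroups.elemAb_card_eq_pow (p := 2) (PGroups.elemAb_mono hV (fixOn_le : V' ≤ V))
      rw [← hV', hi, hj, ← pow_succ'] at hlt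
      rw [hi, hj, show (4 : ℕ) = 2 ^ 2 by norm_num, ← pow_add]
      have := (Nat.pow_lt_pow_iff_right (by norm_num : 1 < 2)).mp hlt
      exact Nat.pow_le_pow_right (by norm_num) (by omega)
    have hna : ∀ {U : Subgroup G} {g : G}, g ∈ Subgroup.normalizer (U : Set G) → a * g = g * a →
        g ∈ Subgroup.normalizer (fixOn U (Subgroup.zpowers a) : Set G) := fun hU hg =>
      normalizer_inf_le_normalizer_fixOn ⟨hU, Subgroup.centralizer_le_normalizer _
        (Subgroup.mem_centralizer_iff.mpr fun z hz => by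
          obtain ⟨m, rfl⟩ := hz
          exact ((show Commute a _ from hg).zpow_left m).eq)⟩
    have hBV : B ≤ Subgroup.normalizer (V' : Set G) := fun b hb =>
      hna (hAV (hBA hb)) (PGroups.elemAb_comm hA haA (hBA hb))
    have hBK : B ≤ Subgroup.normalizer (K' : Set G) := fun b hb =>
      hna (hAK (hBA hb)) (PGroups.elemAb_comm hA haA (hBA hb))
    have hKV' : K' ≤ Subgroup.normalizer (V' : Set G) := fun k hk =>
      hna (hKV hk.1) (mem_fixOn_zpowers.mp hk).2
    have hKf' : K' ⊓ Subgroup.centralizer (V' : Set G) = ⊥ := by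
      rw [eq_bot_iff]
      rintro k ⟨hk, hkc⟩
      have hkK : k ∈ K := hk.1
      have hka : a * k = k * a := (mem_fixOn_zpowers.mp hk).2
      suffices k ∈ K ⊓ Subgroup.centralizer (V : Set G) by rwa [hKf] at this
      refine ⟨hkK, Subgroup.mem_centralizer_iff.mpr fun v hv => ?_⟩
      have hsq : ∀ u ∈ V, u * u = 1 := fun u hu => by rw [← pow_two]; exact hV.2 u hu
      have hkv : k * v * k⁻¹ ∈ V := (Subgroup.mem_normalizer_iff.mp (hKV hkK) v).mp hv
      have hav : a * v * a⁻¹ ∈ V := (Subgroup.mem_normalizer_iff.mp (hAV haA) v).mp hv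
      have haa : a * a = 1 := by rw [← pow_two]; exact hA.2 a haA
      -- `c = a v a⁻¹ v` lies in `C_V(a)`
      have hc : a * v * a⁻¹ * v ∈ V' := by
        refine mem_fixOn_zpowers.mpr ⟨mul_mem hav hv, mul_inv_eq_iff_eq_mul.mp ?_⟩
        calc a * (a * v * a⁻¹ * v) * a⁻¹ = (a * a) * v * (a * a)⁻¹ * (a * v * a⁻¹) := by group
          _ = v * (a * v * a⁻¹) := by rw [haa]; group
          _ = a * v * a⁻¹ * v := PGroups.elemAb_comm hV hv hav
      have hkc' : ∀ u ∈ V', k * u * k⁻¹ = u := fun u hu => by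
        rw [← Subgroup.mem_centralizer_iff.mp hkc u hu, mul_inv_cancel_right]
      set w := k * v * k⁻¹ * v⁻¹ with hw
      have hwV : w ∈ V := mul_mem hkv (inv_mem hv)
      have hwa : w ∈ V' := by
        refine mem_fixOn_zpowers.mpr ⟨hwV, mul_inv_eq_iff_eq_mul.mp ?_⟩
        have h1 : a * w * a⁻¹ = k * (a * v * a⁻¹ * v) * k⁻¹ * (k * v * k⁻¹)⁻¹ *
            ((a * v * a⁻¹ * v) * v⁻¹)⁻¹ := by
          have hka' : a * k * a⁻¹ = k := by rw [hka, mul_inv_cancel_right]
          calc a * w * a⁻¹ = (a * k * a⁻¹) * (a * v * a⁻¹) * (a * k * a⁻¹)⁻¹ * (a * v * a⁻¹)⁻¹ := by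
                rw [hw]; group
            _ = k * (a * v * a⁻¹) * k⁻¹ * (a * v * a⁻¹)⁻¹ := by rw [hka']
            _ = _ := by group
        rw [h1, hkc' _ hc]
        have hvi : v⁻¹ = v := inv_eq_of_mul_eq_one_right (hsq v hv)
        have hmain : ∀ c x y : V, c * x⁻¹ * (c * y⁻¹)⁻¹ = x * y⁻¹ := by
          let _ : CommGroup V := { V.toGroup with mul_comm := hV.1.is_comm.comm }
          intro c x y
          have hxi : x⁻¹ = x := inv_eq_of_mul_eq_one_right
            (Subtype.ext (by rw [Subgroup.coe_mul]; exact hsq x x.2))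
          have hyi : y⁻¹ = y := inv_eq_of_mul_eq_one_right
            (Subtype.ext (by rw [Subgroup.coe_mul]; exact hsq y y.2))
          rw [hxi, hyi, mul_inv, hyi, mul_mul_mul_comm, mul_inv_cancel, one_mul]
        exact congrArg Subtype.val (hmain ⟨_, hc.1⟩ ⟨_, hkv⟩ ⟨v, hv⟩)
      have := conj_eq_self_of_odd (hK.of_dvd_nat (Subgroup.orderOf_dvd_natCard K hkK)) 1
        (hkc' w hwa) (by rw [pow_one]; exact hV.2 w hwV)
      exact (mul_inv_eq_iff_eq_mul.mp this).symm
    have hT' : NoTransv V' B K' := fun V'' hV'' b hb k hk => hT V'' (hV''.trans fixOn_le) b (hBA hb) k hk.1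
    have hBpos : 0 < Nat.card B := Nat.card_pos
    have hIH := ih (Nat.card B) (by omega) (PGroups.elemAb_mono hV fixOn_le) (PGroups.elemAb_mono hA hBA)
      (hK.of_dvd_nat (Subgroup.card_dvd_of_le fixOn_le)) hBV hKV' hBK hKf' hBf hT' rfl
    have hfix : fixOn V A ≤ fixOn V' B := by
      rw [hgen]
      exact fun v hv => ⟨fixOn_anti le_sup_right hv, (fixOn_anti (V := V) le_sup_left hv).2⟩
    calc Nat.card A ^ 2 * Nat.card (fixOn V A)
        ≤ (2 * Nat.card B) ^ 2 * Nat.card (fixOn V' B) := by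
          rw [hcard]; exact Nat.mul_le_mul_left _ (Subgroup.card_le_of_le hfix)
      _ = 4 * (Nat.card B ^ 2 * Nat.card (fixOn V' B)) := by ring
      _ ≤ 4 * Nat.card V' := Nat.mul_le_mul_left _ hIH
      _ ≤ _ := h4

end Cfsg.Agent.Lib.SFourFree
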