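import Cfsg.Agent.Lib.SFourFree.Setup

/-!
# In the minimal configuration `W ≤ O₂(G)`

If not, choose `g` in the preimage of `O_{2'}(G/Q)` with `W'= gWg⁻¹` and `[g, a] ∉ Q` for all
`a ∈ W ∖ Q`.  The bounds for the action of `W' ∩ Q` on `W`, for `W ∩ Q` on `W'`, and for `W` on
`(W ∩ Q)(W' ∩ Q) / (W ∩ W' ∩ Q)` are contradictory.

Owner: helper65.
-/

set_option autoImplicit false

namespace Cfsg.Agent.Lib.SFourFree

open Subgroup PLocal

variable {G : Type*} [Group G] [Finite G] {S : Sylow 2 G} {W : Subgroup G}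

theorem arith_le {d d' w n₁ n₂ : ℕ} (hd : 0 < d) (h1 : d ^ 2 ≤ w * n₁) (h2 : d' ^ 2 ≤ w * n₂)
    (h3 : n₁ ≤ d') (h4 : n₂ ≤ d) : d ≤ w := by
  have h5 : n₁ ^ 2 ≤ w * d :=
    (Nat.pow_le_pow_left h3 2).trans (h2.trans (Nat.mul_le_mul_left _ h4))
  have h6 : d ^ 4 ≤ w ^ 3 * d := by
    calc d ^ 4 = (d ^ 2) ^ 2 := by ring
      _ ≤ (w * n₁) ^ 2 := Nat.pow_le_pow_left h1 2
      _ = w ^ 2 * n₁ ^ 2 := by ring
      _ ≤ w ^ 2 * (w * d) := Nat.mul_le_mul_left _ h5
      _ = w ^ 3 * d := by ring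
  have h7 : d ^ 3 ≤ w ^ 3 := Nat.le_of_mul_le_mul_right (by rw [← pow_succ]; exact h6) hd
  exact (Nat.pow_le_pow_iff_left (by norm_num)).mp h7

theorem Setup.le_pCore (hs : Setup S W) : W ≤ Cfsg.pCore 2 G := by
  classical
  by_contra hWQ
  have : Fact (Nat.Prime 2) := ⟨Nat.prime_two⟩
  have := hs.solv
  set Q := Cfsg.pCore 2 G with hQ
  have hQS : Q ≤ (S : Subgroup G) := Cores.pCore_le_sylow S
  have hQ2 : IsPGroup 2 Q := Cores.pCore_isPGroup 2
  have hQn : ∀ x : G, x ∈ Subgroup.normalizer (Q : Set G) := fun x => by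
    rw [Subgroup.normalizer_eq_top]; trivial
  -- the element `g`
  let πQ := QuotientGroup.mk' Q
  set K₁ := Cfsg.pPrimeCore 2 (G ⧸ Q) with hK₁
  have hK₁odd : Odd (Nat.card K₁) := Nat.coprime_two_right.mp (Cores.pPrimeCore_coprime 2)
  set A₁ := W.map πQ with hA₁
  have hA₁el : Cfsg.IsElementaryAbelian 2 A₁ := PGroups.elemAb_map πQ hs.elem
  have hA₁f : A₁ ⊓ Subgroup.centralizer (K₁ : Set (G ⧸ Q)) = ⊥ := by
    rw [eq_bot_iff]
    rintro x ⟨hx, hxc⟩
    have hxK : x ∈ K₁ := centralizer_pPrimeCore_le PSolvable.isPSolvable_of_isSolvable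
      (Cores.pCore_quotient_pCore 2) hxc
    rw [Subgroup.mem_bot, ← orderOf_eq_one_iff]
    exact Nat.eq_one_of_dvd_coprimes (Nat.coprime_two_right.mpr hK₁odd)
      (Subgroup.orderOf_dvd_natCard _ hxK) (orderOf_dvd_of_pow_eq_one (hA₁el.2 x hx))
  obtain ⟨gq, hgq, hfree⟩ := exists_fixFree hA₁el
    (fun x _ => by rw [Subgroup.normalizer_eq_top]; trivial) hK₁odd hA₁f
  obtain ⟨g, rfl⟩ := QuotientGroup.mk'_surjective Q gq
  set W' := W.map (MulAut.conj g).toMonoidHom with hW'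
  have hW'el : Cfsg.IsElementaryAbelian 2 W' := PGroups.elemAb_conj g hs.elem
  set W₀ := W ⊓ Q with hW₀
  set R := W' ⊓ Q with hR
  have hQmap : Q.map (MulAut.conj g).toMonoidHom = Q := Subgroup.Normal.map_conj_eq Q g
  have hRmap : W₀.map (MulAut.conj g).toMonoidHom = R := by
    rw [hW₀, Subgroup.map_inf _ _ _ (MulAut.conj g).injective, hQmap]
  -- normalizations
  have hQW : Q ≤ Subgroup.normalizer (W : Set G) := hs.pCore_le_normalizer
  have hQW' : Q ≤ Subgroup.normalizer (W' : Set G) := by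
    intro q hq
    have hq' : g⁻¹ * q * g ∈ Q := by
      have := (inferInstance : Q.Normal).conj_mem q hq g⁻¹
      simpa using this
    have h1 := Subgroup.le_normalizer_map (MulAut.conj g).toMonoidHom
      (Subgroup.mem_map_of_mem (MulAut.conj g).toMonoidHom (hQW hq'))
    have h2 : (MulAut.conj g).toMonoidHom (g⁻¹ * q * g) = q := by simp [mul_assoc]
    rw [h2] at h1
    exact h1
  have hnQ : ∀ {U : Subgroup G}, Q ≤ Subgroup.normalizer (U : Set G) →
      Q ≤ Subgroup.normalizer ((U ⊓ Q : Subgroup G) : Set G) := fun hU q hq =>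
    Subgroup.mem_normalizer_iff.mpr fun x => and_congr
      (Subgroup.mem_normalizer_iff.mp (hU hq) x) (Subgroup.mem_normalizer_iff.mp (hQn q) x)
  -- the two bounds
  set w := Q.relIndex W with hw
  set d := (Subgroup.centralizer (W : Set G)).relIndex R with hd
  set d' := (Subgroup.centralizer (W' : Set G)).relIndex W₀ with hd'
  set n₁ := (Subgroup.centralizer (R : Set G)).relIndex W₀ with hn₁
  set n₂ := (Subgroup.centralizer (W₀ : Set G)).relIndex R with hn₂
  have hcomm0 : ∀ {U X : Subgroup G}, Cfsg.IsElementaryAbelian 2 U →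
      (∀ a ∈ U, ∀ b ∈ U, a * b * a⁻¹ * b⁻¹ ∈ Subgroup.centralizer (X : Set G)) ∧
      (∀ a ∈ U, a * a ∈ Subgroup.centralizer (X : Set G)) := fun hU =>
    ⟨fun a ha b hb => by
      rw [PGroups.elemAb_comm hU ha hb, mul_inv_cancel_right, mul_inv_cancel]; exact one_mem _,
    fun a ha => by rw [← pow_two, hU.2 a ha]; exact one_mem _⟩
  have hsplit : ∀ (U : Subgroup G) (X : Subgroup G),
      (Subgroup.centralizer (X : Set G)).relIndex U ≤
        Q.relIndex U * (Subgroup.centralizer (X : Set G)).relIndex (U ⊓ Q) := by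
    intro U X
    have h := relIndex_mul_relIndex (U ⊓ (Q ⊓ Subgroup.centralizer (X : Set G))) (U ⊓ Q) U
      (inf_le_inf_left _ inf_le_left) inf_le_left
    rw [inf_relIndex_left U Q] at h
    have h2 : (U ⊓ (Q ⊓ Subgroup.centralizer (X : Set G))).relIndex (U ⊓ Q) =
        (Subgroup.centralizer (X : Set G)).relIndex (U ⊓ Q) := by
      rw [← inf_assoc, inf_relIndex_left]
    rw [h2, inf_relIndex_left, mul_comm] at h
    rw [h]
    exact Subgroup.relIndex_le_of_le_left inf_le_right Subgroup.index_ne_zero_of_finite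
  have hRel : Cfsg.IsElementaryAbelian 2 R := PGroups.elemAb_mono hW'el inf_le_left
  have hW₀el : Cfsg.IsElementaryAbelian 2 W₀ := PGroups.elemAb_mono hs.elem inf_le_left
  have e1 : d ^ 2 ≤ w * n₁ := by
    have h : Sq W R := hs.sq R (inf_le_right.trans hQS) (hcomm0 hRel).1 (hcomm0 hRel).2
    exact h.trans (hsplit W R)
  have hwW' : Q.relIndex W' = w := by
    rw [hw, hW']
    conv_lhs => rw [← hQmap]
    exact Subgroup.relIndex_map_map_of_injective _ _ (MulAut.conj g).injective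
  have e2 : d' ^ 2 ≤ w * n₂ := by
    have h : Sq W' W₀ := hs.sq_conj g inf_le_right (hcomm0 hW₀el).1 (hcomm0 hW₀el).2
    rw [← hwW']
    exact h.trans (hsplit W' W₀)
  have hdw : d ≤ w := arith_le (Nat.pos_of_ne_zero Subgroup.index_ne_zero_of_finite) e1 e2
    (Subgroup.relIndex_le_of_le_left (Subgroup.centralizer_le inf_le_left)
      Subgroup.index_ne_zero_of_finite)
    (Subgroup.relIndex_le_of_le_left (Subgroup.centralizer_le inf_le_left)
      Subgroup.index_ne_zero_of_finite)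
  -- `N = W₀ R`, `D = W₀ ∩ R`
  set N := W₀ ⊔ R with hN
  set D := W₀ ⊓ R with hD
  set Y := W ⊔ W' with hY
  have hNY : N ≤ Y := sup_le (inf_le_left.trans le_sup_left) (inf_le_left.trans le_sup_right)
  have hRW₀ : R ≤ Subgroup.normalizer (W₀ : Set G) := inf_le_right.trans (hnQ hQW)
  have hW₀R : W₀ ≤ Subgroup.normalizer (R : Set G) := inf_le_right.trans (hnQ hQW')
  have hcQ : ∀ {U : Subgroup G}, Q ≤ Subgroup.normalizer (U : Set G) → ∀ a ∈ U, ∀ q ∈ Q,
      a * q * a⁻¹ * q⁻¹ ∈ U ⊓ Q := by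
    intro U hU a ha q hq
    refine Subgroup.mem_inf.mpr
      ⟨?_, Q.mul_mem ((inferInstance : Q.Normal).conj_mem q hq a) (Q.inv_mem hq)⟩
    rw [show a * q * a⁻¹ * q⁻¹ = a * (q * a⁻¹ * q⁻¹) by group]
    exact U.mul_mem ha ((Subgroup.mem_normalizer_iff.mp (hU hq) a⁻¹).mp (U.inv_mem ha))
  have hcomm : ∀ a ∈ W₀, ∀ b ∈ R, a * b * a⁻¹ * b⁻¹ ∈ D := fun a ha b hb => by
    refine Subgroup.mem_inf.mpr ⟨hcQ hQW a ha.1 b hb.2, ?_⟩
    have := R.inv_mem (hcQ hQW' b hb.1 a ha.2)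
    convert this using 1; group
  have hNQ : N ≤ Q := sup_le inf_le_right inf_le_right
  have hN2 : IsPGroup 2 N := hQ2.to_le hNQ
  have hWN : ∀ a ∈ W, ∀ x ∈ N, a * x * a⁻¹ ∈ N := fun a ha x hx => by
    have h := hcQ hQW a ha x (hNQ hx)
    have := mul_mem ((le_sup_left : W₀ ≤ N) h) hx
    rwa [inv_mul_cancel_right] at this
  have hW'N : ∀ a ∈ W', ∀ x ∈ N, a * x * a⁻¹ ∈ N := fun a ha x hx => by
    have h := hcQ hQW' a ha x (hNQ hx)
    have := mul_mem ((le_sup_right : R ≤ N) h) hx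
    rwa [inv_mul_cancel_right] at this
  have hnorm : ∀ {U : Subgroup G} (a : G), (∀ x ∈ U, a * x * a⁻¹ ∈ U) →
      a ∈ Subgroup.normalizer (U : Set G) := fun a h => by
    rw [Subgroup.mem_normalizer_iff_map_conj_eq]
    refine Subgroup.eq_of_le_of_card_ge ?_
      (Subgroup.card_map_of_injective (MulAut.conj a).injective).ge
    rintro _ ⟨x, hx, rfl⟩
    exact h x hx
  have hYN : Y ≤ Subgroup.normalizer (N : Set G) :=
    sup_le (fun a ha => hnorm a (hWN a ha)) fun a ha => hnorm a (hW'N a ha)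
  have hYD : Y ≤ Subgroup.centralizer (D : Set G) :=
    sup_le (fun a ha => Subgroup.mem_centralizer_iff.mpr fun x hx =>
        PGroups.elemAb_comm hs.elem hx.1.1 ha)
      fun a ha => Subgroup.mem_centralizer_iff.mpr fun x hx => PGroups.elemAb_comm hW'el hx.2.1 ha
  have hQN : ∀ y ∈ Y, ∀ q ∈ Q, y * q * y⁻¹ * q⁻¹ ∈ N := by
    suffices h : ∀ y ∈ Y, y ∈ Subgroup.normalizer (N : Set G) ∧ ∀ q ∈ Q, y * q * y⁻¹ * q⁻¹ ∈ N from
      fun y hy => (h y hy).2
    intro y hy
    have hy' : y ∈ Subgroup.closure ((W : Set G) ∪ W') := by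
      rw [Subgroup.closure_union, Subgroup.closure_eq, Subgroup.closure_eq]; exact hy
    clear hy
    induction hy' using Subgroup.closure_induction with
    | mem y hy =>
      rcases hy with hy | hy
      · exact ⟨hnorm y (hWN y hy), fun q hq => (le_sup_left : W₀ ≤ N) (hcQ hQW y hy q hq)⟩
      · exact ⟨hnorm y (hW'N y hy), fun q hq => (le_sup_right : R ≤ N) (hcQ hQW' y hy q hq)⟩
    | one => exact ⟨one_mem _, fun q _ => by simp⟩
    | mul y z _ _ hy hz =>
      refine ⟨mul_mem hy.1 hz.1, fun q hq => ?_⟩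
      have e : y * z * q * (y * z)⁻¹ * q⁻¹ =
          y * (z * q * z⁻¹ * q⁻¹) * y⁻¹ * (y * q * y⁻¹ * q⁻¹) := by group
      rw [e]
      exact mul_mem ((Subgroup.mem_normalizer_iff.mp hy.1 _).mp (hz.2 q hq)) (hy.2 q hq)
    | inv y _ hy =>
      refine ⟨inv_mem hy.1, fun q hq => ?_⟩
      have e : y⁻¹ * q * y⁻¹⁻¹ * q⁻¹ = y⁻¹ * (y * q * y⁻¹ * q⁻¹)⁻¹ * y⁻¹⁻¹ := by group
      rw [e]
      exact (Subgroup.mem_normalizer_iff.mp (inv_mem hy.1) _).mp (inv_mem (hy.2 q hq))
  -- work in `Y / D`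
  let D' := D.subgroupOf Y
  haveI : D'.Normal := ⟨fun x hx y => by
    rw [Subgroup.mem_subgroupOf] at hx ⊢
    have h := Subgroup.mem_centralizer_iff.mp (hYD y.2) x hx
    rw [Subgroup.coe_mul, Subgroup.coe_mul, Subgroup.coe_inv, ← h, mul_inv_cancel_right]
    exact hx⟩
  let π : Y →* Y ⧸ D' := QuotientGroup.mk' D'
  set V := (N.subgroupOf Y).map π with hV
  haveI : (N.subgroupOf Y).Normal := Subgroup.normal_subgroupOf_of_le_normalizer hYN
  haveI hVn : V.Normal := Subgroup.Normal.map inferInstance _ (QuotientGroup.mk'_surjective D')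
  have hπeq : ∀ x y : Y, (x : G) * (y : G)⁻¹ ∈ D → π x = π y := fun x y h =>
    eq_of_div_eq_one (by
      rw [← map_div, QuotientGroup.mk'_apply, QuotientGroup.eq_one_iff, Subgroup.mem_subgroupOf,
        div_eq_mul_inv]
      exact h)
  have hπ1 : ∀ x : Y, π x = 1 ↔ (x : G) ∈ D := fun x => by
    rw [QuotientGroup.mk'_apply, QuotientGroup.eq_one_iff, Subgroup.mem_subgroupOf]
  have hVel : Cfsg.IsElementaryAbelian 2 V := by
    have hNset : ∀ x : Y, x ∈ N.subgroupOf Y → π x ∈ Subgroup.closure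
        (π '' {z : Y | (z : G) ∈ W₀ ∨ (z : G) ∈ R}) := by
      intro x hx
      rw [Subgroup.mem_subgroupOf] at hx
      have hx' : (x : G) ∈ ((W₀ ⊔ R : Subgroup G) : Set G) := hx
      rw [Subgroup.coe_mul_of_right_le_normalizer_left W₀ R hRW₀] at hx'
      obtain ⟨u, hu, v, hv, huv⟩ := hx'
      let u' : Y := ⟨u, le_sup_left (b := W') hu.1⟩
      let v' : Y := ⟨v, le_sup_right (a := W) hv.1⟩
      rw [show x = u' * v' from Subtype.ext huv.symm, map_mul]
      exact mul_mem (Subgroup.subset_closure ⟨u', Or.inl hu, rfl⟩)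
        (Subgroup.subset_closure ⟨v', Or.inr hv, rfl⟩)
    refine PGroups.elemAb_mono (PGroups.elemAb_closure ?_ ?_)
      (Subgroup.map_le_iff_le_comap.mpr fun x hx => Subgroup.mem_comap.mpr (hNset x hx))
    · rintro _ ⟨x, hx, rfl⟩ _ ⟨y, hy, rfl⟩
      rw [← map_mul, ← map_mul]
      refine hπeq _ _ ?_
      rw [Subgroup.coe_mul, Subgroup.coe_mul, mul_inv_rev, ← mul_assoc]
      rcases hx with hx | hx <;> rcases hy with hy | hy
      · rw [PGroups.elemAb_comm hW₀el hx hy]; simp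
      · exact hcomm x hx y hy
      · have := inv_mem (hcomm y hy x hx)
        convert this using 1; group
      · rw [PGroups.elemAb_comm hRel hx hy]; simp
    · rintro _ ⟨x, hx, rfl⟩
      rw [← map_pow, hπ1, SubgroupClass.coe_pow]
      rcases hx with hx | hx
      · rw [hW₀el.2 _ hx]; exact one_mem _
      · rw [hRel.2 _ hx]; exact one_mem _
  set Cv := Subgroup.centralizer (V : Set (Y ⧸ D')) with hCv
  let ρ : Y →* (Y ⧸ D') ⧸ Cv := (QuotientGroup.mk' Cv).comp π
  have hρsurj : Function.Surjective ρ :=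
    (QuotientGroup.mk'_surjective Cv).comp (QuotientGroup.mk'_surjective D')
  have hρ1 : ∀ y : Y, ρ y = 1 ↔ ∀ x ∈ N, (y : G) * x * (y : G)⁻¹ * x⁻¹ ∈ D := by
    intro y
    rw [MonoidHom.comp_apply, QuotientGroup.mk'_apply, QuotientGroup.eq_one_iff, hCv,
      Subgroup.mem_centralizer_iff]
    constructor
    · intro h x hx
      have h1 := h (π ⟨x, hNY hx⟩) ⟨⟨x, hNY hx⟩, hx, rfl⟩
      have h2 : π (y * ⟨x, hNY hx⟩ * y⁻¹ * (⟨x, hNY hx⟩ : Y)⁻¹) = 1 := by
        rw [map_mul, map_mul, map_mul, map_inv, map_inv, ← h1, mul_inv_cancel_right, mul_inv_cancel]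
      exact (hπ1 _).mp h2
    · rintro h _ ⟨x, hx, rfl⟩
      rw [← map_mul, ← map_mul]
      refine (hπeq _ _ ?_).symm
      simpa [mul_assoc] using h x hx
  -- elements of `W₀` and `R` act trivially
  have hW₀ρ : ∀ y : Y, (y : G) ∈ W₀ → ρ y = 1 := fun y hy => by
    rw [hρ1]
    intro x hx
    have hx' : x ∈ ((W₀ ⊔ R : Subgroup G) : Set G) := hx
    rw [Subgroup.coe_mul_of_right_le_normalizer_left W₀ R hRW₀] at hx'
    obtain ⟨u, hu, v, hv, rfl⟩ := hx'
    have e : (y : G) * (u * v) * (y : G)⁻¹ * (u * v)⁻¹ =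
        ((y : G) * u * (y : G)⁻¹ * u⁻¹) * (u * ((y : G) * v * (y : G)⁻¹ * v⁻¹) * u⁻¹) := by group
    show (y : G) * (u * v) * (y : G)⁻¹ * (u * v)⁻¹ ∈ D
    rw [e, PGroups.elemAb_comm hW₀el hy hu, mul_inv_cancel_right, mul_inv_cancel, one_mul]
    have hDc := hcomm _ hy v hv
    have h' := Subgroup.mem_centralizer_iff.mp (hYD (le_sup_left (b := W') hu.1)) _ hDc
    rw [← h', mul_inv_cancel_right]
    exact hDc
  have hRρ : ∀ y : Y, (y : G) ∈ R → ρ y = 1 := fun y hy => by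
    rw [hρ1]
    intro x hx
    have hx' : x ∈ ((W₀ ⊔ R : Subgroup G) : Set G) := hx
    rw [Subgroup.coe_mul_of_right_le_normalizer_left W₀ R hRW₀] at hx'
    obtain ⟨u, hu, v, hv, rfl⟩ := hx'
    have e : (y : G) * (u * v) * (y : G)⁻¹ * (u * v)⁻¹ =
        ((y : G) * u * (y : G)⁻¹ * u⁻¹) * (u * ((y : G) * v * (y : G)⁻¹ * v⁻¹) * u⁻¹) := by group
    show (y : G) * (u * v) * (y : G)⁻¹ * (u * v)⁻¹ ∈ D
    rw [e, PGroups.elemAb_comm hRel hy hv, mul_inv_cancel_right, mul_inv_cancel, mul_one,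
      mul_inv_cancel, mul_one]
    have := inv_mem (hcomm u hu _ hy)
    convert this using 1; group
  -- the image of `Q ∩ Y` is central
  set Z := (Q.subgroupOf Y).map ρ with hZ
  have hZc : ∀ z ∈ Z, ∀ x, z * x = x * z := by
    rintro _ ⟨q, hq, rfl⟩ x
    obtain ⟨y, rfl⟩ := hρsurj x
    let T : Subgroup Y := (Subgroup.centralizer {ρ q}).comap ρ
    have hWle : ∀ z : Y, (z : G) ∈ W ∨ (z : G) ∈ W' → z ∈ T := by
      intro z hz
      rw [Subgroup.mem_comap, Subgroup.mem_centralizer_singleton_iff]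
      have hzc : ρ (z * q * z⁻¹ * q⁻¹) = 1 := by
        rcases hz with hz | hz
        · exact hW₀ρ _ (hcQ hQW _ hz _ hq)
        · exact hRρ _ (hcQ hQW' _ hz _ hq)
      rw [map_mul, map_mul, map_mul, map_inv, map_inv, mul_inv_eq_one, mul_inv_eq_iff_eq_mul] at hzc
      exact hzc
    have htop : Y ≤ T.map Y.subtype := sup_le
      (fun a ha => ⟨⟨a, le_sup_left (b := W') ha⟩, hWle _ (Or.inl ha), rfl⟩)
      (fun a ha => ⟨⟨a, le_sup_right (a := W) ha⟩, hWle _ (Or.inr ha), rfl⟩)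
    obtain ⟨y', hy', hyy⟩ := htop y.2
    rw [show y = y' from (Subtype.ext hyy).symm]
    exact (Subgroup.mem_centralizer_singleton_iff.mp hy').symm
  -- the odd subgroup
  set K₀ := K₁.comap πQ with hK₀
  set T₀ := (K₀.subgroupOf Y).map ρ with hT₀
  haveI : T₀.Normal := Subgroup.Normal.map inferInstance _ hρsurj
  have hZT : Z ≤ T₀ := Subgroup.map_mono fun x hx => by
    rw [Subgroup.mem_subgroupOf] at hx ⊢
    show πQ x ∈ K₁
    rw [show πQ x = 1 from (QuotientGroup.eq_one_iff _).mpr hx]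
    exact one_mem _
  have hZ2 : IsPGroup 2 Z := (hQ2.comap_subtype).map ρ
  have hoddidx : Odd (Z.relIndex T₀) := by
    refine hK₁odd.of_dvd_nat ?_
    have h1 : Z.relIndex T₀ ∣ (Q.subgroupOf Y).relIndex (K₀.subgroupOf Y) := by
      rw [hZ, hT₀, ← Subgroup.relIndex_comap, Subgroup.comap_map_eq]
      exact Subgroup.relIndex_dvd_of_le_left _ le_sup_left
    refine h1.trans ?_
    have h2 : (Q.subgroupOf Y).relIndex (K₀.subgroupOf Y) = Q.relIndex (K₀ ⊓ Y) := by
      rw [← Subgroup.relIndex_subgroupOf (L := Y) inf_le_right]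
      congr 1
      ext x; simp [Subgroup.mem_subgroupOf]
    rw [h2]
    have h3 : Q.relIndex (K₀ ⊓ Y) ∣ Q.relIndex K₀ := by
      have e1 := Subgroup.relIndex_ker (K := K₀ ⊓ Y) πQ
      have e2 := Subgroup.relIndex_ker (K := K₀) πQ
      rw [QuotientGroup.ker_mk'] at e1 e2
      rw [e1, e2]
      exact Subgroup.card_dvd_of_le (Subgroup.map_mono inf_le_left)
    refine h3.trans (dvd_of_eq ?_)
    have h4 := Subgroup.relIndex_ker (K := K₀) πQ
    rw [QuotientGroup.ker_mk'] at h4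
    rw [h4, hK₀, Subgroup.map_comap_eq_self_of_surjective (QuotientGroup.mk'_surjective Q)]
  haveI : (Z.subgroupOf T₀).Normal := ⟨fun z hz t => by
    rw [Subgroup.mem_subgroupOf] at hz ⊢
    rw [Subgroup.coe_mul, Subgroup.coe_mul, Subgroup.coe_inv, ← hZc _ hz, mul_inv_cancel_right]
    exact hz⟩
  obtain ⟨KT, hKT⟩ := Subgroup.exists_right_complement'_of_coprime (N := Z.subgroupOf T₀) (by
    rw [Nat.card_congr (Subgroup.subgroupOfEquivOfLe hZT).toEquiv]
    obtain ⟨j, hj⟩ := hZ2.exists_card_eq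
    rw [hj]
    exact (Nat.coprime_two_left.mpr hoddidx).pow_left j)
  haveI hKTn : KT.Normal := by
    rw [← Subgroup.normalizer_eq_top_iff, ← top_le_iff, ← hKT.sup_eq_top, sup_le_iff]
    refine ⟨fun z hz => Subgroup.center_le_normalizer _ (Subgroup.mem_center_iff.mpr fun t => ?_),
      Subgroup.le_normalizer⟩
    exact Subtype.ext (hZc _ hz t).symm
  have hKTodd : Odd (Nat.card KT) := by
    have h := hKT.card_mul_card
    rw [← Subgroup.card_mul_index (Z.subgroupOf T₀)] at h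
    rw [Nat.eq_of_mul_eq_mul_left Nat.card_pos h]
    exact hoddidx
  have hKTle : KT ≤ Cfsg.pPrimeCore 2 T₀ := Cores.le_pPrimeCore (Nat.coprime_two_right.mpr hKTodd)
  set Ko := Cfsg.pPrimeCore 2 ((Y ⧸ D') ⧸ Cv) with hKo
  have hKoodd : Odd (Nat.card Ko) := Nat.coprime_two_right.mp (Cores.pPrimeCore_coprime 2)
  have hodd_mem : ∀ x ∈ T₀, Odd (orderOf x) → x ∈ Ko := by
    intro x hx hxo
    have hxKT : (⟨x, hx⟩ : T₀) ∈ KT := by
      have hmk : ∀ t : T₀, t ∈ KT ↔ QuotientGroup.mk' KT t = 1 := fun t =>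
        ((QuotientGroup.eq_one_iff t).symm)
      rw [hmk, ← orderOf_eq_one_iff]
      refine Nat.eq_one_of_dvd_coprimes (a := orderOf x) (b := Nat.card (T₀ ⧸ KT)) ?_ ?_
        (orderOf_dvd_natCard _)
      · obtain ⟨j, hj⟩ := hZ2.exists_card_eq
        rw [← Subgroup.index_eq_card, hKT.index_eq_card,
          Nat.card_congr (Subgroup.subgroupOfEquivOfLe hZT).toEquiv, hj]
        exact (Nat.coprime_two_right.mpr hxo).pow_right j
      · have := orderOf_map_dvd (QuotientGroup.mk' KT) (⟨x, hx⟩ : T₀)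
        rwa [Subgroup.orderOf_mk] at this
    haveI : ((Cfsg.pPrimeCore 2 T₀).map T₀.subtype).Normal := Cores.normal_map_subtype T₀ _
    refine (Cores.le_pPrimeCore ?_ : (Cfsg.pPrimeCore 2 T₀).map T₀.subtype ≤ Ko)
      ⟨⟨x, hx⟩, hKTle hxKT, rfl⟩
    rw [Subgroup.card_map_of_injective T₀.subtype_injective]
    exact Cores.pPrimeCore_coprime 2
  set A := (W.subgroupOf Y).map π with hA
  have hYS4 : ¬ Cfsg.Involves (Equiv.Perm (Fin 4)) (Y ⧸ D') := fun h =>
    hs.s4 (Transfer.InvolvesS4.involves_of_injective Y.subtype Y.subtype_injective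
      (Transfer.InvolvesS4.involves_of_surjective π (QuotientGroup.mk'_surjective D') h))
  have hAel : Cfsg.IsElementaryAbelian 2 A :=
    PGroups.elemAb_map π (PGroups.elemAb_subgroupOf hs.elem Y)
  -- an element of `W ∖ Q` commutes with no nontrivial element
  have hkey : ∀ y : Y, (y : G) ∈ W →
      (∀ k ∈ Ko, ρ y * k = k * ρ y) → (y : G) ∈ Q := by
    intro y hy hcommK
    by_contra hyQ
    set a : G := (y : G) with ha
    have haa : a * a = 1 := by rw [← pow_two]; exact hs.elem.2 a hy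
    have hai : a⁻¹ = a := inv_eq_of_mul_eq_one_right haa
    set k₀ := g * a * g⁻¹ * a with hk₀
    have hk₀Y : k₀ ∈ Y :=
      mul_mem (le_sup_right (a := W) ⟨a, hy, rfl⟩) (le_sup_left (b := W') hy)
    have hk₀K : πQ k₀ ∈ K₁ := by
      have e : πQ k₀ = πQ g * (πQ a * (πQ g)⁻¹ * (πQ a)⁻¹) := by
        rw [hk₀, map_mul, map_mul, map_mul, map_inv, ← map_inv πQ a, hai]; group
      rw [e]
      exact mul_mem hgq ((inferInstance : K₁.Normal).conj_mem _ (inv_mem hgq) _)
    have hk₀ne : πQ k₀ ≠ 1 := by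
      intro h
      refine hyQ ((QuotientGroup.eq_one_iff a).mp (hfree (πQ a) ⟨a, hy, rfl⟩ ?_))
      have h1 : πQ g * πQ a * (πQ g)⁻¹ * πQ a = 1 := by
        rw [← map_inv, ← map_mul, ← map_mul, ← map_mul]; exact h
      rw [mul_eq_one_iff_eq_inv, ← map_inv πQ a, hai, mul_inv_eq_iff_eq_mul] at h1
      exact h1.symm
    obtain ⟨k, hk, hko, hkeq⟩ := exists_odd_part πQ hK₁odd hk₀K
    have hkY : k ∈ Y := (Subgroup.zpowers_le.mpr hk₀Y) hk
    have hinv : a * k * a⁻¹ = k⁻¹ := by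
      obtain ⟨i, rfl⟩ := hk
      have h0 : a * k₀ * a⁻¹ = k₀⁻¹ := by
        rw [eq_inv_iff_mul_eq_one, hai, hk₀]
        calc a * (g * a * g⁻¹ * a) * a * (g * a * g⁻¹ * a)
            = a * g * a * g⁻¹ * (a * a) * (g * a * g⁻¹ * a) := by group
          _ = a * g * a * g⁻¹ * 1 * (g * a * g⁻¹ * a) := by rw [haa]
          _ = a * g * (a * a) * g⁻¹ * a := by group
          _ = a * g * 1 * g⁻¹ * a := by rw [haa]
          _ = a * a := by group
          _ = 1 := haa
      simp only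
      rw [conj_zpow.symm, h0, inv_zpow]
    -- the image of `k` is odd and inverted, so trivial
    have hρk : ρ ⟨k, hkY⟩ = 1 := by
      have hmemT : ρ ⟨k, hkY⟩ ∈ T₀ := by
        refine ⟨⟨k, hkY⟩, ?_, rfl⟩
        show πQ k ∈ K₁
        rw [hkeq]; exact hk₀K
      have ho : Odd (orderOf (ρ ⟨k, hkY⟩)) := by
        refine hko.of_dvd_nat ?_
        have := orderOf_map_dvd ρ ⟨k, hkY⟩
        rwa [Subgroup.orderOf_mk] at this
      have h1 := hcommK _ (hodd_mem _ hmemT ho)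
      have h2 : ρ y * ρ ⟨k, hkY⟩ * (ρ y)⁻¹ = (ρ ⟨k, hkY⟩)⁻¹ := by
        rw [← map_mul, ← map_inv ρ y, ← map_mul, ← map_inv]
        exact congrArg ρ (Subtype.ext hinv)
      rw [h1, mul_inv_cancel_right] at h2
      have h3 : (ρ ⟨k, hkY⟩) ^ 2 = 1 := by
        rw [pow_two]; nth_rewrite 1 [h2]; exact inv_mul_cancel _
      exact orderOf_eq_one_iff.mp (Nat.eq_one_of_dvd_coprimes (Nat.coprime_two_right.mpr ho)
        dvd_rfl (orderOf_dvd_of_pow_eq_one h3))
    -- so `k` centralises `Q`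
    have hkN : ∀ x ∈ N, k * x * k⁻¹ = x := by
      intro x hx
      have h1 := (hρ1 _).mp hρk x hx
      refine conj_eq_self_of_odd hko 1 ?_ ?_
      · rw [← Subgroup.mem_centralizer_iff.mp (hYD hkY) _ h1, mul_inv_cancel_right]
      · rw [pow_one]; exact hs.elem.2 _ h1.1.1
    have hkQ : k ∈ Q := by
      refine hs.c2 (Subgroup.mem_centralizer_iff.mpr fun q hq => ?_)
      have h1 := hQN k hkY q hq
      obtain ⟨j, hj⟩ := hN2 ⟨_, h1⟩
      exact (mul_inv_eq_iff_eq_mul.mp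
        (conj_eq_self_of_odd hko j (hkN _ h1) (congrArg Subtype.val hj))).symm
    exact hk₀ne (by rw [← hkeq]; exact (QuotientGroup.eq_one_iff k).mpr hkQ)
  have hfaith : ∀ a ∈ A, (∀ k ∈ Ko, QuotientGroup.mk a * k = k * QuotientGroup.mk a) →
      a ∈ Cv := by
    rintro _ ⟨y, hy, rfl⟩ hc
    have hyQ := hkey y hy hc
    exact (QuotientGroup.eq_one_iff _).mp (hW₀ρ y ⟨hy, hyQ⟩)
  have hsqY : Sq V A := sq_of_odd_normal hYS4 V hVel A (fun a ha b hb => by
      rw [PGroups.elemAb_comm hAel ha hb, mul_inv_cancel_right, mul_inv_cancel]; exact one_mem _)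
    (fun a ha => by rw [← pow_two, hAel.2 a ha]; exact one_mem _) Ko hKoodd hfaith
  -- compare
  have hleft : w ≤ Cv.relIndex A := by
    rw [hA, ← Subgroup.relIndex_comap]
    have hle : Cv.comap π ⊓ W.subgroupOf Y ≤ Q.subgroupOf Y ⊓ W.subgroupOf Y := by
      refine le_inf (fun y hy => ?_) inf_le_right
      refine hkey y hy.2 fun k hk => ?_
      rw [show ρ y = 1 from (QuotientGroup.eq_one_iff _).mpr hy.1, one_mul, mul_one]
    have h1 := Subgroup.relIndex_le_of_le_left (L := W.subgroupOf Y) hle Subgroup.index_ne_zero_of_finite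
    rw [inf_relIndex_right, inf_relIndex_right, Subgroup.relIndex_subgroupOf le_sup_left] at h1
    exact h1
  have hright : (Subgroup.centralizer (A : Set (Y ⧸ D'))).relIndex V ≤ d := by
    rw [hV, ← Subgroup.relIndex_comap]
    set C' := R ⊓ Subgroup.centralizer (W : Set G) with hC'
    set X := W₀ ⊔ C' with hX
    have hXle : X.subgroupOf Y ≤ (Subgroup.centralizer (A : Set (Y ⧸ D'))).comap π := by
      intro x hx
      have hxW : (x : G) ∈ Subgroup.centralizer (W : Set G) := by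
        refine (sup_le ?_ inf_le_right : X ≤ _) hx
        exact inf_le_left.trans (Subgroup.le_centralizer_iff.mpr
          fun u hu => Subgroup.mem_centralizer_iff.mpr fun v hv =>
            PGroups.elemAb_comm hs.elem hv hu)
      rw [Subgroup.mem_comap, Subgroup.mem_centralizer_iff]
      rintro _ ⟨y, hy, rfl⟩
      rw [← map_mul, ← map_mul]
      exact congrArg π (Subtype.ext (Subgroup.mem_centralizer_iff.mp hxW _ hy))
    refine (Subgroup.relIndex_le_of_le_left hXle Subgroup.index_ne_zero_of_finite).trans ?_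
    rw [Subgroup.relIndex_subgroupOf hNY]
    -- `|N : X| = |R : C'|`
    have hXN : X ≤ N := sup_le le_sup_left (inf_le_left.trans le_sup_right)
    have hC'n : C' ≤ Subgroup.normalizer (W₀ : Set G) := inf_le_left.trans hRW₀
    have h1 := relIndex_mul_relIndex (⊥ : Subgroup G) X N bot_le hXN
    rw [relIndex_bot_left, relIndex_bot_left] at h1
    have h2 := relIndex_mul_relIndex (⊥ : Subgroup G) C' R bot_le inf_le_left
    rw [relIndex_bot_left, relIndex_bot_left, hC', inf_relIndex_left] at h2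
    have h3 := card_sup_mul_card_inf (H := R) (K := W₀) hRW₀
    have h4 := card_sup_mul_card_inf (H := C') (K := W₀) hC'n
    have h5 : C' ⊓ W₀ = R ⊓ W₀ := by
      refine le_antisymm (inf_le_inf_right _ inf_le_left) fun x hx => ⟨⟨hx.1, ?_⟩, hx.2⟩
      exact Subgroup.mem_centralizer_iff.mpr fun v hv => PGroups.elemAb_comm hs.elem hv hx.2.1
    rw [sup_comm] at h3 h4
    rw [← hN] at h3
    rw [← hX, h5] at h4
    rw [← h1, ← h2, ← hC'] at h3
    have hpos : 0 < Nat.card X * Nat.card (R ⊓ W₀ : Subgroup G) :=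
      Nat.mul_pos Nat.card_pos Nat.card_pos
    refine le_of_eq (Nat.eq_of_mul_eq_mul_left hpos ?_)
    rw [hd]
    calc Nat.card X * Nat.card (R ⊓ W₀ : Subgroup G) * X.relIndex N
        = Nat.card X * X.relIndex N * Nat.card (R ⊓ W₀ : Subgroup G) := by ring
      _ = _ := h3
      _ = Nat.card C' * Nat.card W₀ * (Subgroup.centralizer (W : Set G)).relIndex R := by ring
      _ = _ := by rw [← h4]
  have hww : w ^ 2 ≤ w := (Nat.pow_le_pow_left hleft 2).trans ((hsqY.trans hright).trans hdw)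
  have hw1 : w = 1 := by
    have hpos : 0 < w := Nat.pos_of_ne_zero Subgroup.index_ne_zero_of_finite
    rw [pow_two] at hww
    have := Nat.le_of_mul_le_mul_left (hww.trans (mul_one w).ge) hpos
    omega
  exact hWQ (Subgroup.relIndex_eq_one.mp hw1)

end Cfsg.Agent.Lib.SFourFree
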