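import Cfsg.Agent.Lib.SFourFree.InCore

/-!
# The minimal configuration does not exist

`V = ⟨W^G⟩` is elementary abelian in `O₂(G)` and no elementary abelian subgroup of largest order of
`S` offends on it; hence `J(S)` centralises `V` and `W` is normal.

Owner: helper65.
-/

set_option autoImplicit false

namespace Cfsg.Agent.Lib.SFourFree

open Subgroup PLocal
open scoped commutatorElement

variable {G : Type*} [Group G]

theorem comap_centralizer_map {H : Type*} [Group H] (f : G →* H) (hf : Function.Injective f)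
    (U : Subgroup G) :
    (Subgroup.centralizer ((U.map f : Subgroup H) : Set H)).comap f =
      Subgroup.centralizer (U : Set G) := by
  ext x
  simp only [Subgroup.mem_comap, Subgroup.mem_centralizer_iff, Subgroup.coe_map,
    Set.forall_mem_image, ← map_mul]
  exact forall₂_congr fun z _ => hf.eq_iff

theorem arith_eq {a b n β γ : ℕ} (hb : 0 < β) (hg : 0 < γ) (hab : 0 < a * b)
    (h1 : β ^ 2 ≤ n) (h2 : a * b * γ ^ 2 ≤ n) (h3 : n ≤ β * γ) :
    a = 1 ∧ b = 1 ∧ β = γ ∧ n = β ^ 2 := by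
  have hgb : γ ≤ β := by
    have h4 : γ * γ ≤ β * γ := by
      calc γ * γ = 1 * γ ^ 2 := by ring
        _ ≤ a * b * γ ^ 2 := Nat.mul_le_mul_right _ hab
        _ ≤ _ := h2.trans h3
    exact Nat.le_of_mul_le_mul_right h4 hg
  have hbg : β ≤ γ := by
    have h4 : β * β ≤ β * γ := by rw [← pow_two]; exact h1.trans h3
    exact Nat.le_of_mul_le_mul_left h4 hb
  have he : β = γ := le_antisymm hbg hgb
  subst he
  have hn : n = β ^ 2 := le_antisymm (h3.trans (by rw [pow_two])) h1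
  rw [hn] at h2
  have h5 : a * b = 1 := by
    have := Nat.le_of_mul_le_mul_right (h2.trans (one_mul _).ge) (pow_pos hb 2)
    omega
  exact ⟨Nat.eq_one_of_mul_eq_one_right h5, Nat.eq_one_of_mul_eq_one_left h5, rfl, hn⟩

variable [Finite G] {S : Sylow 2 G} {W : Subgroup G}

theorem Setup.false (hs : Setup S W) : False := by
  classical
  have : Fact (Nat.Prime 2) := ⟨Nat.prime_two⟩
  have := hs.solv
  set Q := Cfsg.pCore 2 G with hQ
  have hQS : Q ≤ (S : Subgroup G) := Cores.pCore_le_sylow S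
  have hWQ : W ≤ Q := hs.le_pCore
  -- `V = ⟨W^G⟩`
  let Wc : G → Subgroup G := fun g => W.map (MulAut.conj g).toMonoidHom
  have hWcQ : ∀ g, Wc g ≤ Q := fun g =>
    (Subgroup.map_mono hWQ).trans (Subgroup.Normal.map_conj_eq Q g).le
  have hWcel : ∀ g, Cfsg.IsElementaryAbelian 2 (Wc g) := fun g => PGroups.elemAb_conj g hs.elem
  have hcomm0 : ∀ (U X : Subgroup G), Cfsg.IsElementaryAbelian 2 U →
      (∀ a ∈ U, ∀ b ∈ U, a * b * a⁻¹ * b⁻¹ ∈ Subgroup.centralizer (X : Set G)) ∧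
      (∀ a ∈ U, a * a ∈ Subgroup.centralizer (X : Set G)) := fun U X hU =>
    ⟨fun a ha b hb => by
      rw [PGroups.elemAb_comm hU ha hb, mul_inv_cancel_right, mul_inv_cancel]; exact one_mem _,
    fun a ha => by rw [← pow_two, hU.2 a ha]; exact one_mem _⟩
  have hWg : ∀ g, W ≤ Subgroup.centralizer ((Wc g : Subgroup G) : Set G) := by
    intro g
    set d₁ := (Subgroup.centralizer ((Wc g : Subgroup G) : Set G)).relIndex W
    set d₂ := (Subgroup.centralizer (W : Set G)).relIndex (Wc g)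
    have h1 : d₂ ^ 2 ≤ d₁ :=
      hs.sq (Wc g) ((hWcQ g).trans hQS) (hcomm0 _ _ (hWcel g)).1 (hcomm0 _ _ (hWcel g)).2
    have h2 : d₁ ^ 2 ≤ d₂ :=
      hs.sq_conj g hWQ (hcomm0 _ _ hs.elem).1 (hcomm0 _ _ hs.elem).2
    have h3 : d₁ * d₁ ^ 3 ≤ d₁ * 1 := by
      calc d₁ * d₁ ^ 3 = (d₁ ^ 2) ^ 2 := by ring
        _ ≤ d₂ ^ 2 := Nat.pow_le_pow_left h2 2
        _ ≤ d₁ * 1 := by rw [mul_one]; exact h1
    have hpos : 0 < d₁ := Nat.pos_of_ne_zero Subgroup.index_ne_zero_of_finite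
    have h4 := Nat.le_of_mul_le_mul_left h3 hpos
    have h5 : d₁ ≤ 1 := (Nat.le_self_pow (by norm_num : 3 ≠ 0) d₁).trans h4
    exact Subgroup.relIndex_eq_one.mp (by omega : d₁ = 1)
  set V := ⨆ g : G, Wc g with hV
  haveI hVn : V.Normal := ⟨fun x hx y => by
    have h : x ∈ V := hx
    have h2 := Subgroup.mem_map_of_mem (MulAut.conj y).toMonoidHom h
    rw [hV, Subgroup.map_iSup] at h2
    refine (iSup_le fun g => ?_ : _ ≤ V) h2
    refine le_trans (le_of_eq ?_) (le_iSup Wc (y * g))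
    simp only [Wc]
    rw [Subgroup.map_map]
    congr 1
    ext z
    simp [mul_assoc]⟩
  have hWV : W ≤ V := by
    refine le_trans (le_of_eq ?_) (le_iSup Wc 1)
    simp only [Wc, map_one]
    exact (Subgroup.map_id W).symm
  have hVQ : V ≤ Q := iSup_le hWcQ
  have hVel : Cfsg.IsElementaryAbelian 2 V := by
    have hVcl : V = Subgroup.closure (⋃ g, (Wc g : Set G)) := by
      rw [Subgroup.closure_iUnion]; simp [hV]
    rw [hVcl]
    refine PGroups.elemAb_closure ?_ ?_
    · intro a ha b hb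
      obtain ⟨g, hag⟩ := Set.mem_iUnion.mp ha
      obtain ⟨h, hbh⟩ := Set.mem_iUnion.mp hb
      obtain ⟨w, hw, rfl⟩ := hag
      obtain ⟨w', hw', rfl⟩ := hbh
      have h1 := Subgroup.mem_centralizer_iff.mp (hWg (g⁻¹ * h) hw)
        ((g⁻¹ * h) * w' * (g⁻¹ * h)⁻¹) ⟨w', hw', rfl⟩
      simp only [MulEquiv.coe_toMonoidHom, MulAut.conj_apply]
      calc g * w * g⁻¹ * (h * w' * h⁻¹)
          = g * (w * ((g⁻¹ * h) * w' * (g⁻¹ * h)⁻¹)) * g⁻¹ := by group
        _ = g * (((g⁻¹ * h) * w' * (g⁻¹ * h)⁻¹) * w) * g⁻¹ := by rw [h1]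
        _ = h * w' * h⁻¹ * (g * w * g⁻¹) := by group
    · intro a ha
      obtain ⟨g, hag⟩ := Set.mem_iUnion.mp ha
      exact (hWcel g).2 a hag
  -- the bound for subgroups of `O₂(G)`
  have hchain : ∀ P : Subgroup G, P ≤ Q →
      (∀ a ∈ P, ∀ b ∈ P, a * b * a⁻¹ * b⁻¹ ∈ Subgroup.centralizer (V : Set G)) →
      (∀ a ∈ P, a * a ∈ Subgroup.centralizer (V : Set G)) → Sq V P := fun P hP hc h2 =>
    sq_of_generated Wc hV fun g B hB => hs.sq_conj g (hB.trans hP)
      (fun a ha b hb => Subgroup.centralizer_le (SetLike.coe_subset_coe.mpr (le_iSup Wc g))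
        (hc a (hB ha) b (hB hb)))
      (fun a ha => Subgroup.centralizer_le (SetLike.coe_subset_coe.mpr (le_iSup Wc g)) (h2 a (hB ha)))
  have hCVW : Subgroup.centralizer (V : Set G) ≤ Subgroup.normalizer (W : Set G) :=
    (Subgroup.centralizer_le hWV).trans (Subgroup.centralizer_le_normalizer _)
  -- an offender
  by_cases hJ : ∀ A ∈ PGroups.maxElemAbIn 2 (S : Subgroup G), A ≤ Subgroup.centralizer (V : Set G)
  · refine hs.proper (top_le_iff.mp ?_)
    set C := Subgroup.centralizer (V : Set G) with hC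
    have hJT : Cfsg.thompsonSubgroupOf 2 (S : Subgroup G) ≤ (S : Subgroup G) ⊓ C := by
      refine le_inf (PGroups.thompsonSubgroupOf_le 2 _) ?_
      rw [PGroups.thompsonSubgroupOf_eq]
      exact sSup_le hJ
    rw [← normalizer_inf_sup_eq_top S C]
    refine sup_le ?_ hCVW
    refine (PGroups.normalizer_le_normalizer_thompson (p := 2) _).trans ?_
    rw [PGroups.thompsonSubgroupOf_eq_of_le inf_le_left hJT]
    exact hs.jnorm
  push Not at hJ
  obtain ⟨A, hAmax, hAV⟩ := hJ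
  have hAel : Cfsg.IsElementaryAbelian 2 A := hAmax.2.1
  have hAS : A ≤ (S : Subgroup G) := hAmax.1
  set CV := Subgroup.centralizer (V : Set G) with hCV
  set α := CV.relIndex A with hα
  set n := (Subgroup.centralizer (A : Set G)).relIndex V with hn
  have hnα : n ≤ α := by
    have hbest := (bestOffender_of_maxElemAb (maxElemAbIn_sylow_subset S hAmax) hVel).1
      (A ⊓ CV) inf_le_left
    have hfix : fixOn V (A ⊓ CV) = V := fixOn_eq_self_iff.mpr inf_le_right
    have hbest' : Nat.card (A ⊓ CV : Subgroup G) * Nat.card V ≤ Nat.card A * Nat.card (fixOn V A) := by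
      have := hbest
      rw [show V ⊓ Subgroup.centralizer ((A ⊓ CV : Subgroup G) : Set G) = V from hfix] at this
      exact this
    have h1 := relIndex_centralizer_mul_card V A
    have h2 : α * Nat.card (A ⊓ CV : Subgroup G) = Nat.card A := by
      have h := relIndex_mul_relIndex (⊥ : Subgroup G) (A ⊓ CV) A bot_le inf_le_left
      rw [relIndex_bot_left, relIndex_bot_left, inf_relIndex_left] at h
      rw [hα, mul_comm]; exact h
    rw [← h1, ← h2] at hbest'
    refine Nat.le_of_mul_le_mul_right ?_ (Nat.mul_pos (Nat.card_pos (α := (A ⊓ CV : Subgroup G)))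
      (Nat.card_pos (α := fixOn V A)))
    calc n * (Nat.card (A ⊓ CV : Subgroup G) * Nat.card (fixOn V A))
        = Nat.card (A ⊓ CV : Subgroup G) * (n * Nat.card (fixOn V A)) := by ring
      _ ≤ α * Nat.card (A ⊓ CV : Subgroup G) * Nat.card (fixOn V A) := hbest'
      _ = _ := by ring
  set B := A ⊓ Q with hB
  set β := CV.relIndex B with hβ
  set γ := Q.relIndex A with hγ
  have hACV : A ⊓ CV ≤ Q := (inf_le_inf_right _ hAS).trans (hs.inf_le_pCore hCVW)
  have hαβγ : α = β * γ := by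
    have h := relIndex_mul_relIndex (A ⊓ CV) B A (le_inf inf_le_left hACV) inf_le_left
    rw [inf_relIndex_left, hB, inf_relIndex_left] at h
    rw [hα, ← h, hβ, hγ]
    congr 1
    have h2 : A ⊓ CV = A ⊓ Q ⊓ CV := by
      refine le_antisymm (le_inf (le_inf inf_le_left hACV) inf_le_right) ?_
      exact le_inf (inf_le_left.trans inf_le_left) inf_le_right
    conv_lhs => rw [h2, inf_relIndex_left]
  have hβn : β ^ 2 ≤ (Subgroup.centralizer (B : Set G)).relIndex V := by
    have hBel := PGroups.elemAb_mono hAel (inf_le_left : B ≤ A)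
    exact hchain B inf_le_right (hcomm0 B V hBel).1 (hcomm0 B V hBel).2
  have hβn' : (Subgroup.centralizer (B : Set G)).relIndex V ≤ n :=
    Subgroup.relIndex_le_of_le_left (Subgroup.centralizer_le inf_le_left)
      Subgroup.index_ne_zero_of_finite
  -- the critical section
  obtain ⟨V₁, ⟨hV₁n, hV₁V, hV₁C⟩, hV₁min⟩ := Set.exists_min_image
    {U : Subgroup G | U.Normal ∧ U ≤ V ∧
      Subgroup.centralizer (U : Set G) ≤ Subgroup.normalizer (W : Set G)}
    (fun U => Nat.card U) (Set.toFinite _) ⟨V, hVn, le_rfl, hCVW⟩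
  set U := ⁅V₁, Q⁆ with hU
  haveI : V₁.Normal := hV₁n
  haveI hUn : U.Normal := inferInstance
  have hUV₁ : U ≤ V₁ := Subgroup.commutator_le_left _ _
  have hUne : U ≠ V₁ := by
    intro h
    have hbot : V₁ = ⊥ := by
      have : Group.IsNilpotent (S : Subgroup G) := S.2.isNilpotent
      obtain ⟨m, hm⟩ := (Subgroup.isNilpotent_iff_lowerCentralSeries (S := (S : Subgroup G))).mp this
      have hle : ∀ i, V₁ ≤ (S : Subgroup G).lowerCentralSeries i := by
        intro i
        induction i with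
        | zero => rw [Subgroup.lowerCentralSeries_zero]; exact hV₁V.trans (hVQ.trans hQS)
        | succ i ih =>
          rw [Subgroup.lowerCentralSeries_succ]
          calc V₁ = ⁅V₁, Q⁆ := h.symm
            _ ≤ _ := Subgroup.commutator_mono ih hQS
      exact le_bot_iff.mp ((hle m).trans hm.le)
    refine hs.proper (top_le_iff.mp (le_trans ?_ hV₁C))
    intro x _
    refine Subgroup.mem_centralizer_iff.mpr fun y hy => ?_
    rw [SetLike.mem_coe, hbot, Subgroup.mem_bot] at hy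
    subst hy; simp
  have hUV : U ≤ V := hUV₁.trans hV₁V
  have hUel : Cfsg.IsElementaryAbelian 2 U := PGroups.elemAb_mono hVel hUV
  have hUodd : ∀ x : G, Odd (orderOf x) → x ∈ Subgroup.centralizer (U : Set G) := by
    refine fun x hx => hs.odd_mem ?_ hx
    intro hle
    exact hUne (Subgroup.eq_of_le_of_card_ge hUV₁ (hV₁min U ⟨hUn, hUV, hle⟩))
  let πU := QuotientGroup.mk' U
  have hπU : ∀ x y : G, πU x = πU y ↔ x * y⁻¹ ∈ U := fun x y => by
    rw [← div_eq_one, ← map_div, QuotientGroup.mk'_apply, QuotientGroup.eq_one_iff, div_eq_mul_inv]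
  set F := V₁.map πU with hF
  haveI hFn : F.Normal := Subgroup.Normal.map inferInstance _ (QuotientGroup.mk'_surjective U)
  set CF := (Subgroup.centralizer (F : Set (G ⧸ U))).comap πU with hCF
  haveI hCFn : CF.Normal := inferInstance
  have hmemCF : ∀ x : G, x ∈ CF ↔ ∀ v ∈ V₁, x * v * x⁻¹ * v⁻¹ ∈ U := by
    intro x
    rw [hCF, Subgroup.mem_comap, Subgroup.mem_centralizer_iff]
    constructor
    · intro h v hv
      refine (hπU _ _).mp ?_
      rw [map_mul, map_mul, map_inv, ← h (πU v) ⟨v, hv, rfl⟩, mul_inv_cancel_right]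
    · rintro h _ ⟨v, hv, rfl⟩
      rw [← map_mul, ← map_mul]
      refine ((hπU _ _).mpr ?_).symm
      simpa [mul_assoc] using h v hv
  have hQCF : Q ≤ CF := fun q hq => (hmemCF q).mpr fun v hv => by
    have := U.inv_mem (Subgroup.commutator_mem_commutator hv hq)
    convert this using 1
    rw [commutatorElement_def]; group
  have hCV₁CF : Subgroup.centralizer (V₁ : Set G) ≤ CF := fun x hx => (hmemCF x).mpr fun v hv => by
    rw [← Subgroup.mem_centralizer_iff.mp hx v hv, mul_inv_cancel_right, mul_inv_cancel]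
    exact one_mem _
  have hCFW : CF ≤ Subgroup.normalizer (W : Set G) := by
    by_contra hne
    refine hs.not_le_of_odd (C := Subgroup.centralizer (V₁ : Set G)) (fun x hx => ?_) hV₁C
    refine Subgroup.mem_centralizer_iff.mpr fun v hv => ?_
    have h1 := (hmemCF x).mp (hs.odd_mem hne hx) v hv
    refine (mul_inv_eq_iff_eq_mul.mp (conj_eq_self_of_odd hx 1 ?_ ?_)).symm
    · rw [← Subgroup.mem_centralizer_iff.mp (hUodd x hx) _ h1, mul_inv_cancel_right]
    · rw [pow_one]; exact hUel.2 _ h1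
  have hSCF : (S : Subgroup G) ⊓ CF ≤ Q := hs.inf_le_pCore hCFW
  have hredCF : ∀ D : Subgroup G, D.Normal → CF ≤ D → (∃ k, CF.relIndex D = 2 ^ k) → D = CF := by
    intro D hD hle ⟨k, hk⟩
    refine le_antisymm ?_ hle
    by_cases hDW : D ≤ Subgroup.normalizer (W : Set G)
    · exact (le_sup_inf_of_relIndex S hle hk).trans
        (sup_le le_rfl ((hs.inf_le_pCore hDW).trans hQCF))
    · exfalso
      refine hs.not_le_of_odd (C := CF) (fun x hx => ?_) hCFW
      have hxD : x ∈ D := hs.odd_mem hDW hx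
      have h1 := Subgroup.relIndex_ker (K := D) (QuotientGroup.mk' CF)
      rw [QuotientGroup.ker_mk', hk] at h1
      have h2 : orderOf ((x : G ⧸ CF)) ∣ 2 ^ k :=
        h1 ▸ Subgroup.orderOf_dvd_natCard _ (Subgroup.mem_map_of_mem _ hxD)
      exact (QuotientGroup.eq_one_iff x).mp (orderOf_eq_one_iff.mp (Nat.eq_one_of_dvd_coprimes
        ((Nat.coprime_two_right.mpr hx).pow_right k) (orderOf_map_dvd (QuotientGroup.mk' CF) x) h2))
  have hAQ : A ⊓ CF ≤ Q := (inf_le_inf_right _ hAS).trans hSCF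
  -- the bound on `F`
  set CA := Subgroup.centralizer (A : Set G) with hCA
  set M := U ⊔ (V₁ ⊓ CA) with hM
  have hMV₁ : M ≤ V₁ := sup_le hUV₁ inf_le_left
  have hγM : γ ^ 2 ≤ M.relIndex V₁ := by
    have hS4U : ¬ Cfsg.Involves (Equiv.Perm (Fin 4)) (G ⧸ U) := fun h =>
      hs.s4 (Transfer.InvolvesS4.involves_of_surjective πU (QuotientGroup.mk'_surjective U) h)
    have hFel : Cfsg.IsElementaryAbelian 2 F := PGroups.elemAb_map πU (PGroups.elemAb_mono hVel hV₁V)
    have hred : Cfsg.pCore 2 ((G ⧸ U) ⧸ Subgroup.centralizer (F : Set (G ⧸ U))) = ⊥ := by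
      refine pCore_quotient_eq_bot _ fun D hD hle ⟨k, hk⟩ => ?_
      have h1 := hredCF (D.comap πU) inferInstance (Subgroup.comap_mono hle) ⟨k, by
        rw [hCF, Subgroup.relIndex_comap,
          Subgroup.map_comap_eq_self_of_surjective (QuotientGroup.mk'_surjective U), hk]⟩
      exact Subgroup.comap_injective (QuotientGroup.mk'_surjective U) h1
    have hA' : Cfsg.IsElementaryAbelian 2 (A.map πU) := PGroups.elemAb_map πU hAel
    have h := sq_of_reduced hS4U F hFel hred (A.map πU)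
      (fun a ha b hb => by
        rw [PGroups.elemAb_comm hA' ha hb, mul_inv_cancel_right, mul_inv_cancel]; exact one_mem _)
      (fun a ha => by rw [← pow_two, hA'.2 a ha]; exact one_mem _)
    rw [Sq, ← Subgroup.relIndex_comap, hF, ← Subgroup.relIndex_comap, ← hF, ← hCF] at h
    have e : CF.relIndex A = γ := by
      rw [hγ, ← inf_relIndex_left A CF, ← inf_relIndex_left A Q]
      congr 1
      exact le_antisymm (le_inf inf_le_left hAQ) (inf_le_inf_left _ hQCF)
    rw [e] at h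
    refine h.trans (Subgroup.relIndex_le_of_le_left ?_ Subgroup.index_ne_zero_of_finite)
    refine sup_le (fun x hx => ?_) fun x hx => ?_
    · rw [Subgroup.mem_comap, show πU x = 1 from (QuotientGroup.eq_one_iff x).mpr hx]
      exact one_mem _
    · rw [Subgroup.mem_comap, Subgroup.mem_centralizer_iff]
      rintro _ ⟨a, ha, rfl⟩
      rw [← map_mul, ← map_mul, Subgroup.mem_centralizer_iff.mp hx.2 a ha]
  set M' := V₁ ⊔ (V ⊓ CA) with hM'
  have hsum : M'.relIndex V * CA.relIndex U * γ ^ 2 ≤ n := by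
    have h1 := relIndex_mul_relIndex (V ⊓ CA) M' V le_sup_right (sup_le hV₁V inf_le_left)
    rw [inf_relIndex_left V CA] at h1
    have h2 := relIndex_mul_relIndex (V₁ ⊓ CA) M V₁ le_sup_right hMV₁
    rw [inf_relIndex_left V₁ CA] at h2
    have h3 : CA.relIndex V₁ ≤ (V ⊓ CA).relIndex M' := by
      refine le_trans ?_ (Subgroup.relIndex_le_of_le_right (le_sup_left : V₁ ≤ M')
        Subgroup.index_ne_zero_of_finite)
      exact Subgroup.relIndex_le_of_le_left inf_le_right Subgroup.index_ne_zero_of_finite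
    have h4 : CA.relIndex U ≤ (V₁ ⊓ CA).relIndex M := by
      refine le_trans ?_ (Subgroup.relIndex_le_of_le_right (le_sup_left : U ≤ M)
        Subgroup.index_ne_zero_of_finite)
      exact Subgroup.relIndex_le_of_le_left inf_le_right Subgroup.index_ne_zero_of_finite
    calc M'.relIndex V * CA.relIndex U * γ ^ 2
        ≤ M'.relIndex V * CA.relIndex U * M.relIndex V₁ := Nat.mul_le_mul_left _ hγM
      _ = M'.relIndex V * (CA.relIndex U * M.relIndex V₁) := mul_assoc _ _ _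
      _ ≤ M'.relIndex V * ((V₁ ⊓ CA).relIndex M * M.relIndex V₁) :=
          Nat.mul_le_mul_left _ (Nat.mul_le_mul_right _ h4)
      _ = M'.relIndex V * CA.relIndex V₁ := by rw [h2]
      _ ≤ M'.relIndex V * (V ⊓ CA).relIndex M' := Nat.mul_le_mul_left _ h3
      _ = n := by rw [mul_comm, h1]
  obtain ⟨ha1, hb1, hβγ, hnβ⟩ := arith_eq (Nat.pos_of_ne_zero Subgroup.index_ne_zero_of_finite)
    (Nat.pos_of_ne_zero Subgroup.index_ne_zero_of_finite)
    (Nat.mul_pos (Nat.pos_of_ne_zero Subgroup.index_ne_zero_of_finite)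
      (Nat.pos_of_ne_zero Subgroup.index_ne_zero_of_finite))
    (hβn.trans hβn') hsum (hnα.trans_eq hαβγ)
  have hVM' : V ≤ M' := Subgroup.relIndex_eq_one.mp ha1
  have hUA : U ≤ CA := Subgroup.relIndex_eq_one.mp hb1
  have hfixB : V ⊓ Subgroup.centralizer (B : Set G) = V ⊓ CA := by
    refine (Subgroup.eq_of_le_of_card_ge (inf_le_inf_left _ (Subgroup.centralizer_le inf_le_left))
      ?_).symm
    have h1 := relIndex_centralizer_mul_card V A
    have h2 := relIndex_centralizer_mul_card V B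
    have he : (Subgroup.centralizer (B : Set G)).relIndex V = n :=
      le_antisymm hβn' (hnβ.le.trans hβn)
    rw [he] at h2
    refine le_of_eq ?_
    exact Nat.eq_of_mul_eq_mul_left (Nat.pos_of_ne_zero Subgroup.index_ne_zero_of_finite)
      (h2.trans h1.symm)
  -- the element `g`
  let πF := QuotientGroup.mk' CF
  set KF := Cfsg.pPrimeCore 2 (G ⧸ CF) with hKF
  have hKFodd : Odd (Nat.card KF) := Nat.coprime_two_right.mp (Cores.pPrimeCore_coprime 2)
  have hAFel : Cfsg.IsElementaryAbelian 2 (A.map πF) := PGroups.elemAb_map πF hAel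
  have hAFf : A.map πF ⊓ Subgroup.centralizer (KF : Set (G ⧸ CF)) = ⊥ := by
    rw [eq_bot_iff]
    rintro x ⟨hx, hxc⟩
    have hxK : x ∈ KF := centralizer_pPrimeCore_le PSolvable.isPSolvable_of_isSolvable
      (pCore_quotient_eq_bot CF hredCF) hxc
    rw [Subgroup.mem_bot, ← orderOf_eq_one_iff]
    exact Nat.eq_one_of_dvd_coprimes (Nat.coprime_two_right.mpr hKFodd)
      (Subgroup.orderOf_dvd_natCard _ hxK) (orderOf_dvd_of_pow_eq_one (hAFel.2 x hx))
  obtain ⟨gq, hgq, hfree⟩ := exists_fixFree hAFel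
    (fun x _ => by rw [Subgroup.normalizer_eq_top]; trivial) hKFodd hAFf
  obtain ⟨g, rfl⟩ := QuotientGroup.mk'_surjective CF gq
  set A' := A.map (MulAut.conj g).toMonoidHom with hA'
  set CA' := Subgroup.centralizer (A' : Set G) with hCA'
  set CL := V ⊓ CA ⊓ CA' with hCL
  set M₁ := Subgroup.centralizer (CL : Set G) with hM₁
  set EV := (Subgroup.centralizer ((V.map πU : Subgroup (G ⧸ U)) : Set (G ⧸ U))).comap πU with hEV
  haveI : (V.map πU).Normal := Subgroup.Normal.map inferInstance _ (QuotientGroup.mk'_surjective U)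
  haveI : EV.Normal := inferInstance
  set E := Q ⊓ Subgroup.centralizer (U : Set G) ⊓ EV with hE
  haveI hEn : E.Normal := inferInstance
  have hmemEV : ∀ x : G, x ∈ EV ↔ ∀ v ∈ V, x * v * x⁻¹ * v⁻¹ ∈ U := by
    intro x
    rw [hEV, Subgroup.mem_comap, Subgroup.mem_centralizer_iff]
    constructor
    · intro h v hv
      refine (hπU _ _).mp ?_
      rw [map_mul, map_mul, map_inv, ← h (πU v) ⟨v, hv, rfl⟩, mul_inv_cancel_right]
    · rintro h _ ⟨v, hv, rfl⟩
      rw [← map_mul, ← map_mul]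
      refine ((hπU _ _).mpr ?_).symm
      simpa [mul_assoc] using h v hv
  have hdec : ∀ v ∈ V, ∃ x ∈ V₁, ∃ c ∈ V ⊓ CA, x * c = v := fun v hv => by
    have h : v ∈ ((V₁ ⊔ (V ⊓ CA) : Subgroup G) : Set G) := hVM' hv
    rw [Subgroup.normal_mul] at h
    exact h
  have hBE : B ≤ E := by
    intro b hb
    have hbU : b ∈ Subgroup.centralizer (U : Set G) := Subgroup.mem_centralizer_iff.mpr
      fun u hu => (Subgroup.mem_centralizer_iff.mp (hUA hu) b hb.1).symm
    refine ⟨⟨hb.2, hbU⟩, (hmemEV b).mpr fun v hv => ?_⟩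
    obtain ⟨x, hx, c, hc, rfl⟩ := hdec v hv
    have hbc : b * c * b⁻¹ = c := by
      rw [Subgroup.mem_centralizer_iff.mp hc.2 b hb.1, mul_inv_cancel_right]
    have e : b * (x * c) * b⁻¹ * (x * c)⁻¹ = (b * x * b⁻¹) * (b * c * b⁻¹) * c⁻¹ * x⁻¹ := by group
    rw [e, hbc, mul_inv_cancel_right]
    exact (hmemCF b).mp (hQCF hb.2) x hx
  have hUA' : U ≤ CA' := by
    intro u hu
    refine Subgroup.mem_centralizer_iff.mpr ?_
    rintro _ ⟨a, ha, rfl⟩
    have h1 : g⁻¹ * u * g ∈ U := by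
      have := hUn.conj_mem u hu g⁻¹
      simpa using this
    have h2 := Subgroup.mem_centralizer_iff.mp (hUA h1) a ha
    simp only [MulEquiv.coe_toMonoidHom, MulAut.conj_apply]
    calc g * a * g⁻¹ * u = g * (a * (g⁻¹ * u * g)) * g⁻¹ := by group
      _ = g * (g⁻¹ * u * g * a) * g⁻¹ := by rw [h2]
      _ = u * (g * a * g⁻¹) := by group
  have hUCL : U ≤ CL := le_inf (le_inf hUV hUA) hUA'
  have hAM₁ : A ≤ M₁ := fun a ha => Subgroup.mem_centralizer_iff.mpr fun x hx =>
    (Subgroup.mem_centralizer_iff.mp hx.1.2 a ha).symm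
  have hA'M₁ : A' ≤ M₁ := fun a ha => Subgroup.mem_centralizer_iff.mpr fun x hx =>
    (Subgroup.mem_centralizer_iff.mp hx.2 a ha).symm
  have hM₁U : M₁ ≤ Subgroup.centralizer (U : Set G) := Subgroup.centralizer_le hUCL
  set P := E ⊓ M₁ with hP
  have hBP : B ≤ P := le_inf hBE (inf_le_left.trans hAM₁)
  set B' := B.map (MulAut.conj g).toMonoidHom with hB'
  have hB'P : B' ≤ P := le_inf ((Subgroup.map_mono hBE).trans (Subgroup.Normal.map_conj_eq E g).le)
    ((Subgroup.map_mono inf_le_left).trans hA'M₁)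
  -- `P` acts on `V` as an elementary abelian group
  have hPact : ∀ x ∈ P, ∀ v ∈ V, ∃ u ∈ U, x * v * x⁻¹ = u * v := fun x hx v hv =>
    ⟨_, (hmemEV x).mp hx.1.2 v hv, (inv_mul_cancel_right _ _).symm⟩
  have hPc : ∀ x ∈ P, ∀ u ∈ U, x * u * x⁻¹ = u := fun x hx u hu => by
    rw [← Subgroup.mem_centralizer_iff.mp hx.1.1.2 u hu, mul_inv_cancel_right]
  have hPcomm : ∀ x ∈ P, ∀ y ∈ P, x * y * x⁻¹ * y⁻¹ ∈ CV := by
    intro x hx y hy
    have hxy : ∀ v ∈ V, (x * y) * v * (x * y)⁻¹ = (y * x) * v * (y * x)⁻¹ := by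
      intro v hv
      obtain ⟨u, hu, hxv⟩ := hPact x hx v hv
      obtain ⟨u', hu', hyv⟩ := hPact y hy v hv
      calc (x * y) * v * (x * y)⁻¹ = x * (y * v * y⁻¹) * x⁻¹ := by group
        _ = (x * u' * x⁻¹) * (x * v * x⁻¹) := by rw [hyv]; group
        _ = u' * u * v := by rw [hPc x hx u' hu', hxv, mul_assoc]
        _ = u * u' * v := by rw [PGroups.elemAb_comm hUel hu' hu]
        _ = (y * u * y⁻¹) * (y * v * y⁻¹) := by rw [hPc y hy u hu, hyv, mul_assoc]
        _ = y * (x * v * x⁻¹) * y⁻¹ := by rw [hxv]; group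
        _ = _ := by group
    refine Subgroup.mem_centralizer_iff.mpr fun v hv => ?_
    have hz : (y * x)⁻¹ * v * (y * x) ∈ V := by
      have := hVn.conj_mem v hv (y * x)⁻¹
      simpa using this
    have h1 := hxy _ hz
    have h2 : x * y * x⁻¹ * y⁻¹ * v * (x * y * x⁻¹ * y⁻¹)⁻¹ = v := by
      calc x * y * x⁻¹ * y⁻¹ * v * (x * y * x⁻¹ * y⁻¹)⁻¹
          = (x * y) * ((y * x)⁻¹ * v * (y * x)) * (x * y)⁻¹ := by group
        _ = (y * x) * ((y * x)⁻¹ * v * (y * x)) * (y * x)⁻¹ := h1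
        _ = v := by group
    exact (mul_inv_eq_iff_eq_mul.mp h2).symm
  have hPsq : ∀ x ∈ P, x * x ∈ CV := by
    intro x hx
    refine Subgroup.mem_centralizer_iff.mpr fun v hv => ?_
    obtain ⟨u, hu, hxv⟩ := hPact x hx v hv
    have h2 : x * x * v * (x * x)⁻¹ = v := by
      calc x * x * v * (x * x)⁻¹ = x * (x * v * x⁻¹) * x⁻¹ := by group
        _ = (x * u * x⁻¹) * (x * v * x⁻¹) := by conv_lhs => rw [hxv]
                                                group
        _ = (u * u) * v := by rw [hPc x hx u hu, hxv, mul_assoc]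
        _ = v := by rw [← pow_two, hUel.2 u hu, one_mul]
    exact (mul_inv_eq_iff_eq_mul.mp h2).symm
  have hn' : CA'.relIndex V = n := by
    rw [hn]
    conv_lhs => rw [← Subgroup.Normal.map_conj_eq V g]
    refine (Subgroup.relIndex_comap CA' (MulAut.conj g).toMonoidHom V).symm.trans ?_
    rw [hCA', hA', comap_centralizer_map _ (MulAut.conj g).injective]
  have hup : CV.relIndex P ≤ β ^ 2 := by
    have h1 : CV.relIndex P ^ 2 ≤ (Subgroup.centralizer (P : Set G)).relIndex V :=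
      hchain P (inf_le_left.trans (inf_le_left.trans inf_le_left)) hPcomm hPsq
    have h2 : (Subgroup.centralizer (P : Set G)).relIndex V ≤ n * n := by
      have hle : CL ≤ Subgroup.centralizer (P : Set G) :=
        Subgroup.le_centralizer_iff.mp inf_le_right
      calc (Subgroup.centralizer (P : Set G)).relIndex V ≤ CL.relIndex V :=
            Subgroup.relIndex_le_of_le_left hle Subgroup.index_ne_zero_of_finite
        _ = (CA ⊓ CA').relIndex V := by rw [hCL, inf_assoc, inf_relIndex_left]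
        _ ≤ CA.relIndex V * CA'.relIndex V := Subgroup.relIndex_inf_le
        _ = n * n := by rw [hn']
    have h3 := h1.trans h2
    rw [← pow_two] at h3
    exact ((Nat.pow_le_pow_iff_left (by norm_num)).mp h3).trans hnβ.le
  -- `P` as a module for `M₁`
  haveI hPn : (P.subgroupOf M₁).Normal := ⟨fun x hx y => by
    rw [Subgroup.mem_subgroupOf] at hx ⊢
    rw [Subgroup.coe_mul, Subgroup.coe_mul, Subgroup.coe_inv]
    exact Subgroup.mem_inf.mpr ⟨hEn.conj_mem _ hx.1 y,
      M₁.mul_mem (M₁.mul_mem y.2 hx.2) (M₁.inv_mem y.2)⟩⟩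
  set CV₁ := Subgroup.centralizer (V₁ : Set G) with hCV₁
  set P₀ := P ⊓ CV₁ with hP₀
  let P₀' := P₀.subgroupOf M₁
  haveI : P₀'.Normal := ⟨fun x hx y => by
    rw [Subgroup.mem_subgroupOf] at hx ⊢
    refine ⟨hPn.conj_mem x hx.1 y, ?_⟩
    rw [Subgroup.coe_mul, Subgroup.coe_mul, Subgroup.coe_inv]
    exact (inferInstance : CV₁.Normal).conj_mem _ hx.2 y⟩
  let π : M₁ →* M₁ ⧸ P₀' := QuotientGroup.mk' P₀'
  set VP := (P.subgroupOf M₁).map π with hVP
  haveI : VP.Normal := Subgroup.Normal.map hPn _ (QuotientGroup.mk'_surjective P₀')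
  have hπ1 : ∀ x : M₁, π x = 1 ↔ (x : G) ∈ P₀ := fun x => by
    rw [QuotientGroup.mk'_apply, QuotientGroup.eq_one_iff, Subgroup.mem_subgroupOf]
  have hCVV₁ : CV ≤ CV₁ := Subgroup.centralizer_le hV₁V
  have hVPel : Cfsg.IsElementaryAbelian 2 VP := by
    refine PGroups.elemAb_mk ?_ ?_
    · rintro _ ⟨x, hx, rfl⟩ _ ⟨y, hy, rfl⟩
      refine commutatorElement_eq_one_iff_mul_comm.mp ?_
      rw [← map_commutatorElement, hπ1, commutatorElement_def]
      exact Subgroup.mem_inf.mpr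
        ⟨P.mul_mem (P.mul_mem (P.mul_mem hx hy) (P.inv_mem hx)) (P.inv_mem hy), hCVV₁ (hPcomm x hx y hy)⟩
    · rintro _ ⟨x, hx, rfl⟩
      rw [← map_pow, hπ1, SubgroupClass.coe_pow, pow_two]
      exact ⟨mul_mem hx hx, hCVV₁ (hPsq x hx)⟩
  set Cv := Subgroup.centralizer (VP : Set (M₁ ⧸ P₀')) with hCv
  let ρ : M₁ →* (M₁ ⧸ P₀') ⧸ Cv := (QuotientGroup.mk' Cv).comp π
  have hρsurj : Function.Surjective ρ :=
    (QuotientGroup.mk'_surjective Cv).comp (QuotientGroup.mk'_surjective P₀')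
  have hρ1 : ∀ y : M₁, ρ y = 1 ↔ ∀ x ∈ P, (y : G) * x * (y : G)⁻¹ * x⁻¹ ∈ CV₁ := by
    intro y
    rw [MonoidHom.comp_apply, QuotientGroup.mk'_apply, QuotientGroup.eq_one_iff, hCv,
      Subgroup.mem_centralizer_iff]
    constructor
    · intro h x hx
      have hxM : x ∈ M₁ := hx.2
      have h1 := h (π ⟨x, hxM⟩) ⟨⟨x, hxM⟩, hx, rfl⟩
      have h2 : π (y * ⟨x, hxM⟩ * y⁻¹ * (⟨x, hxM⟩ : M₁)⁻¹) = 1 := by
        rw [map_mul, map_mul, map_mul, map_inv, map_inv, ← h1, mul_inv_cancel_right, mul_inv_cancel]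
      exact ((hπ1 _).mp h2).2
    · rintro h _ ⟨x, hx, rfl⟩
      have h2 : π (y * x * y⁻¹ * x⁻¹) = 1 := (hπ1 _).mpr
        (Subgroup.mem_inf.mpr ⟨P.mul_mem (hPn.conj_mem x hx y) (P.inv_mem hx), h x hx⟩)
      rw [map_mul, map_mul, map_mul, map_inv, map_inv, mul_inv_eq_one, mul_inv_eq_iff_eq_mul] at h2
      exact h2.symm
  -- `CF` acts trivially
  have hCFρ : CF.subgroupOf M₁ ≤ ρ.ker := by
    intro c hc
    rw [MonoidHom.mem_ker, hρ1]
    intro p hp
    refine Subgroup.mem_centralizer_iff.mpr fun v hv => ?_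
    have hc' : (c : G) ∈ CF := hc
    obtain ⟨u, hu, hpv⟩ := hPact p hp v (hV₁V hv)
    -- `w = c⁻¹ v c ∈ U v`
    set w := (c : G)⁻¹ * v * c with hw
    have hwu : ∃ u₀ ∈ U, w = u₀ * v := by
      refine ⟨(c : G)⁻¹ * v * (c : G)⁻¹⁻¹ * v⁻¹, (hmemCF _).mp (inv_mem hc') v hv, ?_⟩
      rw [hw]; group
    obtain ⟨u₀, hu₀, hwu⟩ := hwu
    have hcu : (c : G) * u * (c : G)⁻¹ = u := by
      rw [← Subgroup.mem_centralizer_iff.mp (hM₁U c.2) u hu, mul_inv_cancel_right]
    have h1 : (c : G) * p * (c : G)⁻¹ * v * ((c : G) * p * (c : G)⁻¹)⁻¹ = p * v * p⁻¹ := by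
      calc (c : G) * p * (c : G)⁻¹ * v * ((c : G) * p * (c : G)⁻¹)⁻¹
          = c * (p * w * p⁻¹) * (c : G)⁻¹ := by rw [hw]; group
        _ = c * ((p * u₀ * p⁻¹) * (p * v * p⁻¹)) * (c : G)⁻¹ := by rw [hwu]; group
        _ = c * (u₀ * (u * v)) * (c : G)⁻¹ := by rw [hPc p hp u₀ hu₀, hpv]
        _ = c * (u * w) * (c : G)⁻¹ := by
            rw [hwu, ← mul_assoc u₀, PGroups.elemAb_comm hUel hu₀ hu, mul_assoc u u₀ v]
        _ = (c * u * (c : G)⁻¹) * (c * w * (c : G)⁻¹) := by group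
        _ = u * v := by rw [hcu, hw]; group
        _ = _ := hpv.symm
    -- so `[c, p]` centralises `v' = p v p⁻¹`; replace `v` by a preimage
    obtain ⟨u', hu', hpv'⟩ := hPact p⁻¹ (P.inv_mem hp) v (hV₁V hv)
    set v' := p⁻¹ * v * p⁻¹⁻¹ with hv'
    have hv'V : v' ∈ V₁ := hV₁n.conj_mem v hv p⁻¹
    obtain ⟨u₁, hu₁, hpv₁⟩ := hPact p hp v' (hV₁V hv'V)
    set w' := (c : G)⁻¹ * v' * c with hw'
    obtain ⟨u₂, hu₂, hwu'⟩ : ∃ u₂ ∈ U, w' = u₂ * v' :=
      ⟨(c : G)⁻¹ * v' * (c : G)⁻¹⁻¹ * v'⁻¹, (hmemCF _).mp (inv_mem hc') v' hv'V, by rw [hw']; group⟩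
    have hcu₁ : (c : G) * u₁ * (c : G)⁻¹ = u₁ := by
      rw [← Subgroup.mem_centralizer_iff.mp (hM₁U c.2) u₁ hu₁, mul_inv_cancel_right]
    have h3 : (c : G) * p * (c : G)⁻¹ * p⁻¹ * v * ((c : G) * p * (c : G)⁻¹ * p⁻¹)⁻¹ = v := by
      calc (c : G) * p * (c : G)⁻¹ * p⁻¹ * v * ((c : G) * p * (c : G)⁻¹ * p⁻¹)⁻¹
          = c * (p * w' * p⁻¹) * (c : G)⁻¹ := by rw [hw', hv']; group
        _ = c * ((p * u₂ * p⁻¹) * (p * v' * p⁻¹)) * (c : G)⁻¹ := by rw [hwu']; group
        _ = c * (u₂ * (u₁ * v')) * (c : G)⁻¹ := by rw [hPc p hp u₂ hu₂, hpv₁]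
        _ = c * (u₁ * w') * (c : G)⁻¹ := by
            rw [hwu', ← mul_assoc u₂, PGroups.elemAb_comm hUel hu₂ hu₁, mul_assoc u₁ u₂ v']
        _ = (c * u₁ * (c : G)⁻¹) * (c * w' * (c : G)⁻¹) := by group
        _ = u₁ * v' := by rw [hcu₁, hw']; group
        _ = p * v' * p⁻¹ := hpv₁.symm
        _ = v := by rw [hv']; group
    exact (mul_inv_eq_iff_eq_mul.mp h3).symm
  set T := ((KF.comap πF).subgroupOf M₁).map ρ with hT
  haveI : T.Normal := Subgroup.Normal.map inferInstance _ hρsurj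
  have hTodd : Odd (Nat.card T) := by
    refine hKFodd.of_dvd_nat ?_
    rw [hT, ← Subgroup.relIndex_ker]
    refine (Subgroup.relIndex_dvd_of_le_left _ hCFρ).trans ?_
    have h2 : (CF.subgroupOf M₁).relIndex ((KF.comap πF).subgroupOf M₁) =
        CF.relIndex (KF.comap πF ⊓ M₁) := by
      rw [← Subgroup.relIndex_subgroupOf (L := M₁) inf_le_right]
      congr 1
      ext x; simp [Subgroup.mem_subgroupOf]
    rw [h2]
    have e1 := Subgroup.relIndex_ker (K := KF.comap πF ⊓ M₁) πF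
    rw [QuotientGroup.ker_mk'] at e1
    rw [e1]
    exact (Subgroup.card_dvd_of_le (Subgroup.map_mono inf_le_left)).trans (dvd_of_eq (by
      rw [Subgroup.map_comap_eq_self_of_surjective (QuotientGroup.mk'_surjective CF)]))
  set Ko := Cfsg.pPrimeCore 2 ((M₁ ⧸ P₀') ⧸ Cv) with hKo
  have hKoodd : Odd (Nat.card Ko) := Nat.coprime_two_right.mp (Cores.pPrimeCore_coprime 2)
  have hTKo : T ≤ Ko := Cores.le_pPrimeCore (Nat.coprime_two_right.mpr hTodd)
  have hkey : ∀ y : M₁, (y : G) ∈ A → (∀ k ∈ Ko, ρ y * k = k * ρ y) → (y : G) ∈ Q := by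
    intro y hy hcommK
    by_contra hyQ
    set a : G := (y : G) with ha
    have haa : a * a = 1 := by rw [← pow_two]; exact hAel.2 a hy
    have hai : a⁻¹ = a := inv_eq_of_mul_eq_one_right haa
    set k₀ := g * a * g⁻¹ * a with hk₀
    have hk₀M : k₀ ∈ M₁ := mul_mem (hA'M₁ ⟨a, hy, rfl⟩) (hAM₁ hy)
    have hk₀K : πF k₀ ∈ KF := by
      have e : πF k₀ = πF g * (πF a * (πF g)⁻¹ * (πF a)⁻¹) := by
        rw [hk₀, map_mul, map_mul, map_mul, map_inv, ← map_inv πF a, hai]; group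
      rw [e]
      exact mul_mem hgq ((inferInstance : KF.Normal).conj_mem _ (inv_mem hgq) _)
    have hk₀ne : πF k₀ ≠ 1 := by
      intro h
      refine hyQ (hAQ ⟨hy, (QuotientGroup.eq_one_iff a).mp (hfree (πF a) ⟨a, hy, rfl⟩ ?_)⟩)
      have h1 : πF g * πF a * (πF g)⁻¹ * πF a = 1 := by
        rw [← map_inv, ← map_mul, ← map_mul, ← map_mul]; exact h
      rw [mul_eq_one_iff_eq_inv, ← map_inv πF a, hai, mul_inv_eq_iff_eq_mul] at h1
      exact h1.symm
    obtain ⟨k, hk, hko, hkeq⟩ := exists_odd_part πF hKFodd hk₀K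
    have hkM : k ∈ M₁ := (Subgroup.zpowers_le.mpr hk₀M) hk
    have hinv : a * k * a⁻¹ = k⁻¹ := by
      obtain ⟨i, rfl⟩ := hk
      have h0 : a * k₀ * a⁻¹ = k₀⁻¹ := by
        rw [eq_inv_iff_mul_eq_one, hai, hk₀]
        calc a * (g * a * g⁻¹ * a) * a * (g * a * g⁻¹ * a)
            = a * g * a * g⁻¹ * (a * a) * (g * a * g⁻¹ * a) := by group
          _ = a * g * a * g⁻¹ * 1 * (g * a * g⁻¹ * a) := by rw [haa]
          _ = a * g * (a * a) * g⁻¹ * a := by group
          _ = a * g * 1 * g⁻¹ * a := by rw [haa]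
          _ = a * a := by group
          _ = 1 := haa
      simp only
      rw [conj_zpow.symm, h0, inv_zpow]
    have hρk : ρ ⟨k, hkM⟩ = 1 := by
      have hmemT : ρ ⟨k, hkM⟩ ∈ T := by
        refine ⟨⟨k, hkM⟩, ?_, rfl⟩
        show πF k ∈ KF
        rw [hkeq]; exact hk₀K
      have ho : Odd (orderOf (ρ ⟨k, hkM⟩)) :=
        hTodd.of_dvd_nat (Subgroup.orderOf_dvd_natCard _ hmemT)
      have h1 := hcommK _ (hTKo hmemT)
      have h2 : ρ y * ρ ⟨k, hkM⟩ * (ρ y)⁻¹ = (ρ ⟨k, hkM⟩)⁻¹ := by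
        rw [← map_mul, ← map_inv ρ y, ← map_mul, ← map_inv]
        exact congrArg ρ (Subtype.ext hinv)
      rw [h1, mul_inv_cancel_right] at h2
      have h3 : (ρ ⟨k, hkM⟩) ^ 2 = 1 := by
        rw [pow_two]; nth_rewrite 1 [h2]; exact inv_mul_cancel _
      exact orderOf_eq_one_iff.mp (Nat.eq_one_of_dvd_coprimes (Nat.coprime_two_right.mpr ho)
        dvd_rfl (orderOf_dvd_of_pow_eq_one h3))
    have hkU : ∀ u ∈ U, k * u * k⁻¹ = u := fun u hu => by
      rw [← Subgroup.mem_centralizer_iff.mp (hM₁U hkM) u hu, mul_inv_cancel_right]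
    refine hk₀ne ?_
    rw [← hkeq]
    refine (QuotientGroup.eq_one_iff k).mpr (hCV₁CF (Subgroup.mem_centralizer_iff.mpr fun v hv => ?_))
    have hwV₁ : k * v * k⁻¹ * v⁻¹ ∈ V₁ := mul_mem (hV₁n.conj_mem v hv k) (inv_mem hv)
    set w := k * v * k⁻¹ * v⁻¹ with hw
    have hkinv : ρ (⟨k, hkM⟩⁻¹) = 1 := by rw [map_inv, hρk, inv_one]
    have hwP : ∀ p ∈ P, p * w * p⁻¹ = w := by
      intro p hp
      obtain ⟨u, hu, hpv⟩ := hPact p hp v (hV₁V hv)
      -- `k⁻¹ p k` acts on `V₁` as `p`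
      have h1 : k⁻¹ * p * k⁻¹⁻¹ * p⁻¹ ∈ CV₁ := (hρ1 _).mp hkinv p hp
      have h2 : (k⁻¹ * p * k) * v * (k⁻¹ * p * k)⁻¹ = p * v * p⁻¹ := by
        have h2' := Subgroup.mem_centralizer_iff.mp h1 (p * v * p⁻¹) (hV₁n.conj_mem v hv p)
        calc (k⁻¹ * p * k) * v * (k⁻¹ * p * k)⁻¹
            = (k⁻¹ * p * k⁻¹⁻¹ * p⁻¹) * (p * v * p⁻¹) * (k⁻¹ * p * k⁻¹⁻¹ * p⁻¹)⁻¹ := by group
          _ = p * v * p⁻¹ := by rw [← h2', mul_inv_cancel_right]
      have hkv : p * (k * v * k⁻¹) * p⁻¹ = u * (k * v * k⁻¹) := by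
        calc p * (k * v * k⁻¹) * p⁻¹ = k * ((k⁻¹ * p * k) * v * (k⁻¹ * p * k)⁻¹) * k⁻¹ := by group
          _ = (k * u * k⁻¹) * (k * v * k⁻¹) := by rw [h2, hpv]; group
          _ = _ := by rw [hkU u hu]
      calc p * w * p⁻¹ = (p * (k * v * k⁻¹) * p⁻¹) * (p * v * p⁻¹)⁻¹ := by rw [hw]; group
        _ = u * (k * v * k⁻¹ * v⁻¹) * u⁻¹ := by rw [hkv, hpv]; group
        _ = w := by
            rw [PGroups.elemAb_comm hVel (hUV hu) (hV₁V hwV₁), mul_inv_cancel_right]
    have hwCL : w ∈ CL := by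
      have hwA : w ∈ V ⊓ CA := by
        rw [← hfixB]
        exact ⟨hV₁V hwV₁, Subgroup.mem_centralizer_iff.mpr fun b hb =>
          mul_inv_eq_iff_eq_mul.mp (hwP b (hBP hb))⟩
      refine ⟨hwA, Subgroup.mem_centralizer_iff.mpr ?_⟩
      rintro _ ⟨a', ha', rfl⟩
      -- pull back by `g`
      have hw0 : g⁻¹ * w * g ∈ V ⊓ CA := by
        rw [← hfixB]
        refine ⟨by simpa using hVn.conj_mem w hwA.1 g⁻¹, Subgroup.mem_centralizer_iff.mpr fun b hb => ?_⟩
        have h := mul_inv_eq_iff_eq_mul.mp (hwP (g * b * g⁻¹) (hB'P ⟨b, hb, rfl⟩))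
        calc b * (g⁻¹ * w * g) = g⁻¹ * (g * b * g⁻¹ * w) * g := by group
          _ = g⁻¹ * (w * (g * b * g⁻¹)) * g := by rw [h]
          _ = _ := by group
      have h := Subgroup.mem_centralizer_iff.mp hw0.2 a' ha'
      simp only [MulEquiv.coe_toMonoidHom, MulAut.conj_apply]
      calc g * a' * g⁻¹ * w = g * (a' * (g⁻¹ * w * g)) * g⁻¹ := by group
        _ = g * (g⁻¹ * w * g * a') * g⁻¹ := by rw [h]
        _ = _ := by group
    refine (mul_inv_eq_iff_eq_mul.mp (conj_eq_self_of_odd hko 1 ?_ ?_)).symm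
    · rw [← hw, ← Subgroup.mem_centralizer_iff.mp hkM w hwCL, mul_inv_cancel_right]
    · rw [pow_one]; exact hVel.2 _ (hV₁V hwV₁)
  set AY := (A.subgroupOf M₁).map π with hAY
  have hYS4 : ¬ Cfsg.Involves (Equiv.Perm (Fin 4)) (M₁ ⧸ P₀') := fun h =>
    hs.s4 (Transfer.InvolvesS4.involves_of_injective M₁.subtype M₁.subtype_injective
      (Transfer.InvolvesS4.involves_of_surjective π (QuotientGroup.mk'_surjective P₀') h))
  have hAYel : Cfsg.IsElementaryAbelian 2 AY :=
    PGroups.elemAb_map π (PGroups.elemAb_subgroupOf hAel M₁)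
  have hBρ : ∀ y : M₁, (y : G) ∈ B → ρ y = 1 := fun y hy =>
    (hρ1 y).mpr fun x hx => hCVV₁ (hPcomm _ (hBP hy) x hx)
  have hfaith : ∀ a ∈ AY, (∀ k ∈ Ko, QuotientGroup.mk a * k = k * QuotientGroup.mk a) → a ∈ Cv := by
    rintro _ ⟨y, hy, rfl⟩ hc
    exact (QuotientGroup.eq_one_iff _).mp (hBρ y ⟨hy, hkey y hy hc⟩)
  have hsqP : Sq VP AY := sq_of_odd_normal hYS4 VP hVPel AY
    (fun a ha b hb => by
      rw [PGroups.elemAb_comm hAYel ha hb, mul_inv_cancel_right, mul_inv_cancel]; exact one_mem _)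
    (fun a ha => by rw [← pow_two, hAYel.2 a ha]; exact one_mem _) Ko hKoodd hfaith
  have hleft : γ ≤ Cv.relIndex AY := by
    rw [hAY, ← Subgroup.relIndex_comap]
    have hle : Cv.comap π ⊓ A.subgroupOf M₁ ≤ Q.subgroupOf M₁ ⊓ A.subgroupOf M₁ := by
      refine le_inf (fun y hy => ?_) inf_le_right
      refine hkey y hy.2 fun k _ => ?_
      rw [show ρ y = 1 from (QuotientGroup.eq_one_iff _).mpr hy.1, one_mul, mul_one]
    have h1 := Subgroup.relIndex_le_of_le_left (L := A.subgroupOf M₁) hle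
      Subgroup.index_ne_zero_of_finite
    rw [inf_relIndex_right, inf_relIndex_right, Subgroup.relIndex_subgroupOf hAM₁] at h1
    exact h1
  have hPpart : β * γ ^ 2 ≤ CV.relIndex P := by
    set X := B ⊔ P₀ with hX
    have hXP : X ≤ P := sup_le hBP inf_le_left
    have hright : (Subgroup.centralizer (AY : Set (M₁ ⧸ P₀'))).relIndex VP ≤ X.relIndex P := by
      rw [hVP, ← Subgroup.relIndex_comap, ← Subgroup.relIndex_subgroupOf (L := M₁)
        (inf_le_right : P ≤ M₁) (H := X)]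
      refine Subgroup.relIndex_le_of_le_left ?_ Subgroup.index_ne_zero_of_finite
      intro x hx
      rw [Subgroup.mem_comap, Subgroup.mem_centralizer_iff]
      rintro _ ⟨y, hy, rfl⟩
      rw [Subgroup.mem_subgroupOf] at hx
      have hx' : (x : G) ∈ ((B ⊔ P₀ : Subgroup G) : Set G) := hx
      have hBn : B ≤ Subgroup.normalizer (P₀ : Set G) := fun b hb => by
        refine Subgroup.mem_normalizer_iff.mpr fun z => ?_
        have hn1 : ∀ m ∈ M₁, ∀ z ∈ P₀, m * z * m⁻¹ ∈ P₀ := fun m hm z hz =>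
          Subgroup.mem_inf.mpr ⟨Subgroup.mem_inf.mpr ⟨hEn.conj_mem _ hz.1.1 m,
            M₁.mul_mem (M₁.mul_mem hm hz.1.2) (M₁.inv_mem hm)⟩,
            (inferInstance : CV₁.Normal).conj_mem _ hz.2 m⟩
        refine ⟨hn1 b (hBP hb).2 z, fun h => ?_⟩
        have := hn1 b⁻¹ (inv_mem (hBP hb).2) _ h
        simpa [mul_assoc] using this
      rw [Subgroup.coe_mul_of_left_le_normalizer_right B P₀ hBn] at hx'
      obtain ⟨b, hb, q, hq, hbq⟩ := hx'
      let b' : M₁ := ⟨b, (hBP hb).2⟩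
      let q' : M₁ := ⟨q, hq.1.2⟩
      have hxe : x = b' * q' := Subtype.ext hbq.symm
      rw [hxe, map_mul, (hπ1 q').mpr hq, mul_one, ← map_mul, ← map_mul]
      exact congrArg π (Subtype.ext (PGroups.elemAb_comm hAel hy hb.1))
    have h1 := relIndex_mul_relIndex P₀ X P le_sup_right hXP
    have h2 : β ≤ P₀.relIndex X := by
      refine le_trans ?_ (Subgroup.relIndex_le_of_le_right (le_sup_left : B ≤ X)
        Subgroup.index_ne_zero_of_finite)
      have hle : P₀ ⊓ B ≤ CV ⊓ B := by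
        refine le_inf ?_ inf_le_right
        intro b hb
        refine Subgroup.mem_centralizer_iff.mpr fun v hv => ?_
        obtain ⟨x, hx, c, hc, rfl⟩ := hdec v hv
        have h1 : x * b = b * x := Subgroup.mem_centralizer_iff.mp hb.1.2 x hx
        have h2 : c * b = b * c := (Subgroup.mem_centralizer_iff.mp hc.2 b hb.2.1).symm
        rw [mul_assoc, h2, ← mul_assoc, h1, mul_assoc]
      have h := Subgroup.relIndex_le_of_le_left (L := B) hle Subgroup.index_ne_zero_of_finite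
      rw [inf_relIndex_right, inf_relIndex_right] at h
      exact h
    have h3 : P₀.relIndex P ≤ CV.relIndex P := by
      rw [hP₀, inf_relIndex_left]
      exact Subgroup.relIndex_le_of_le_left hCVV₁ Subgroup.index_ne_zero_of_finite
    calc β * γ ^ 2 ≤ β * X.relIndex P := Nat.mul_le_mul_left _
          ((Nat.pow_le_pow_left hleft 2).trans (hsqP.trans hright))
      _ ≤ P₀.relIndex X * X.relIndex P := Nat.mul_le_mul_right _ h2
      _ = P₀.relIndex P := h1
      _ ≤ _ := h3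
  have hbp : 0 < β := Nat.pos_of_ne_zero Subgroup.index_ne_zero_of_finite
  have hβ1 : β = 1 := by
    have h : β * β ^ 2 ≤ 1 * β ^ 2 := by
      calc β * β ^ 2 = β * γ ^ 2 := congrArg (fun t => β * t ^ 2) hβγ
        _ ≤ β ^ 2 := hPpart.trans hup
        _ = 1 * β ^ 2 := (one_mul _).symm
    have := Nat.le_of_mul_le_mul_right h (pow_pos hbp 2)
    omega
  have hα1 : α = 1 := by
    calc α = β * γ := hαβγ
      _ = β * β := congrArg (fun t => β * t) hβγ.symm
      _ = 1 := by rw [hβ1]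
  exact hAV (Subgroup.relIndex_eq_one.mp hα1)

end Cfsg.Agent.Lib.SFourFree
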