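import Cfsg.Agent.Lib.SFourFree.Reduced
import Cfsg.Agent.Lib.PLocal.Thompson
import Cfsg.Agent.Lib.PSolvable.Basic

/-!
# A subgroup of a Sylow 2-subgroup satisfying the quadratic bound: the minimal configuration

`Setup` and the elementary consequences of the Sylow 2-subgroup lying in a unique maximal subgroup.

Owner: helper65.
-/

set_option autoImplicit false

namespace Cfsg.Agent.Lib.SFourFree

open Subgroup PLocal

variable {G : Type*} [Group G]

/-- `S` is a Sylow 2-subgroup, `W` a normal elementary abelian subgroup of `S` with the quadratic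
bound, whose normalizer contains every proper subgroup containing `S` and `N(J(S))`. -/
structure Setup [Finite G] (S : Sylow 2 G) (W : Subgroup G) : Prop where
  s4 : ¬ Cfsg.Involves (Equiv.Perm (Fin 4)) G
  solv : Group.IsSolvable G
  c2 : Subgroup.centralizer (Cfsg.pCore 2 G : Set G) ≤ Cfsg.pCore 2 G
  elem : Cfsg.IsElementaryAbelian 2 W
  le : W ≤ (S : Subgroup G)
  norm : (S : Subgroup G) ≤ Subgroup.normalizer (W : Set G)
  sq : ∀ R : Subgroup G, R ≤ (S : Subgroup G) →
    (∀ a ∈ R, ∀ b ∈ R, a * b * a⁻¹ * b⁻¹ ∈ Subgroup.centralizer (W : Set G)) →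
    (∀ a ∈ R, a * a ∈ Subgroup.centralizer (W : Set G)) → Sq W R
  jnorm : Subgroup.normalizer (Cfsg.thompsonSubgroupOf 2 (S : Subgroup G) : Set G) ≤
    Subgroup.normalizer (W : Set G)
  maximal : ∀ U : Subgroup G, (S : Subgroup G) ≤ U → U ≠ ⊤ → U ≤ Subgroup.normalizer (W : Set G)
  proper : Subgroup.normalizer (W : Set G) ≠ ⊤

theorem conj_mem_centralizer {W : Subgroup G} (g : G) {x : G}
    (h : x ∈ Subgroup.centralizer ((W.map (MulAut.conj g).toMonoidHom : Subgroup G) : Set G)) :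
    g⁻¹ * x * g ∈ Subgroup.centralizer (W : Set G) := by
  refine Subgroup.mem_centralizer_iff.mpr fun w hw => ?_
  have h1 := Subgroup.mem_centralizer_iff.mp h (g * w * g⁻¹) ⟨w, hw, rfl⟩
  calc w * (g⁻¹ * x * g) = g⁻¹ * ((g * w * g⁻¹) * x) * g := by group
    _ = g⁻¹ * (x * (g * w * g⁻¹)) * g := by rw [h1]
    _ = g⁻¹ * x * g * w := by group

/-- An odd-order element in the cyclic group of `x` with the same image in an odd-order group. -/
theorem exists_odd_part [Finite G] {X : Type*} [Group X] [Finite X] (π : G →* X) {K : Subgroup X}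
    (hK : Odd (Nat.card K)) {x : G} (hx : π x ∈ K) :
    ∃ k ∈ Subgroup.zpowers x, Odd (orderOf k) ∧ π k = π x := by
  have : Fact (Nat.Prime 2) := ⟨Nat.prime_two⟩
  obtain ⟨p₀, k, hp₀, hk, hpk, -, ⟨j, hj⟩, hko⟩ :=
    Lib.Transfer.PResidual.exists_pPart_mul_pPrimePart (p := 2) x (isOfFinOrder_of_finite x)
  refine ⟨k, hk, Nat.coprime_two_right.mp hko, ?_⟩
  have hp1 : π p₀ = 1 := by
    have hmem : π p₀ ∈ K := by
      obtain ⟨i, rfl⟩ := hp₀
      rw [map_zpow]; exact K.zpow_mem hx i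
    have h1 : orderOf (π p₀) ∣ 2 ^ j := orderOf_dvd_of_pow_eq_one (by rw [← map_pow, hj, map_one])
    exact orderOf_eq_one_iff.mp (Nat.eq_one_of_dvd_coprimes
      ((Nat.coprime_two_right.mpr hK).pow_right j)
      (Subgroup.orderOf_dvd_natCard K hmem) h1)
  rw [← hpk, map_mul, hp1, one_mul]

variable [Finite G] {S : Sylow 2 G} {W : Subgroup G}

theorem Setup.pCore_le_normalizer (hs : Setup S W) :
    Cfsg.pCore 2 G ≤ Subgroup.normalizer (W : Set G) :=
  haveI : Fact (Nat.Prime 2) := ⟨Nat.prime_two⟩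
  (Cores.pCore_le_sylow S).trans hs.norm

theorem Setup.sq_conj (hs : Setup S W) (g : G) {R : Subgroup G} (hR : R ≤ Cfsg.pCore 2 G)
    (hc : ∀ a ∈ R, ∀ b ∈ R, a * b * a⁻¹ * b⁻¹ ∈
      Subgroup.centralizer ((W.map (MulAut.conj g).toMonoidHom : Subgroup G) : Set G))
    (h2 : ∀ a ∈ R, a * a ∈
      Subgroup.centralizer ((W.map (MulAut.conj g).toMonoidHom : Subgroup G) : Set G)) :
    Sq (W.map (MulAut.conj g).toMonoidHom) R := by
  have : Fact (Nat.Prime 2) := ⟨Nat.prime_two⟩
  set R₀ := R.map (MulAut.conj g⁻¹).toMonoidHom with hR₀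
  have hmem : ∀ x ∈ R₀, ∃ y ∈ R, x = g⁻¹ * y * g := by
    rintro _ ⟨y, hy, rfl⟩
    exact ⟨y, hy, by simp⟩
  have hR₀S : R₀ ≤ (S : Subgroup G) := by
    intro x hx
    obtain ⟨y, hy, rfl⟩ := hmem x hx
    refine Cores.pCore_le_sylow S ?_
    have := (inferInstance : (Cfsg.pCore 2 G).Normal).conj_mem _ (hR hy) g⁻¹
    simpa using this
  have h0 : Sq W R₀ := by
    refine hs.sq R₀ hR₀S ?_ ?_
    · intro a ha b hb
      obtain ⟨a', ha', rfl⟩ := hmem a ha
      obtain ⟨b', hb', rfl⟩ := hmem b hb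
      convert conj_mem_centralizer g (hc a' ha' b' hb') using 1
      group
    · intro a ha
      obtain ⟨a', ha', rfl⟩ := hmem a ha
      convert conj_mem_centralizer g (h2 a' ha') using 1
      group
  have h1 := sq_map (MulAut.conj g).toMonoidHom (MulAut.conj g).injective h0
  have hR' : R₀.map (MulAut.conj g).toMonoidHom = R := by
    rw [hR₀, Subgroup.map_map]
    have : ((MulAut.conj g).toMonoidHom.comp (MulAut.conj g⁻¹).toMonoidHom) = MonoidHom.id G :=
      MonoidHom.ext fun x => by simp [mul_assoc]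
    rw [this, Subgroup.map_id]
  rwa [hR'] at h1

/-- A normal subgroup normalizing `W` meets `S` in `O₂(G)`. -/
theorem Setup.inf_le_pCore (hs : Setup S W) {C : Subgroup G} [C.Normal]
    (hC : C ≤ Subgroup.normalizer (W : Set G)) : (S : Subgroup G) ⊓ C ≤ Cfsg.pCore 2 G := by
  have : Fact (Nat.Prime 2) := ⟨Nat.prime_two⟩
  set T := (S : Subgroup G) ⊓ C
  have hN : Subgroup.normalizer (T : Set G) = ⊤ := by
    by_contra hne
    have hS : (S : Subgroup G) ≤ Subgroup.normalizer (T : Set G) := by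
      intro s hs'
      refine Subgroup.mem_normalizer_iff.mpr fun x => ?_
      refine and_congr ?_ ?_
      · exact Subgroup.mem_normalizer_iff.mp (Subgroup.le_normalizer hs') x
      · exact Subgroup.mem_normalizer_iff.mp
          ((Subgroup.normalizer_eq_top (H := C)).ge (Subgroup.mem_top s)) x
    refine hs.proper (top_le_iff.mp ?_)
    rw [← normalizer_inf_sup_eq_top S C]
    exact sup_le (hs.maximal _ hS hne) hC
  haveI : T.Normal := Subgroup.normalizer_eq_top_iff.mp hN
  exact Cores.le_pCore (S.2.to_le inf_le_left)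

/-- A normal subgroup not normalizing `W` contains every element of odd order. -/
theorem Setup.odd_mem (hs : Setup S W) {C : Subgroup G} [C.Normal]
    (hC : ¬ C ≤ Subgroup.normalizer (W : Set G)) {x : G} (hx : Odd (orderOf x)) : x ∈ C := by
  have htop : C ⊔ (S : Subgroup G) = ⊤ := by
    by_contra hne
    exact hC (le_sup_left.trans (hs.maximal _ le_sup_right hne))
  have hx' : x ∈ C ⊔ (S : Subgroup G) := by rw [htop]; trivial
  rw [← SetLike.mem_coe, Subgroup.normal_mul] at hx'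
  obtain ⟨c, hc, s, hs', rfl⟩ := hx'
  obtain ⟨j, hj⟩ := S.2 ⟨s, hs'⟩
  have h1 : ((c * s : G) : G ⧸ C) = (s : G ⧸ C) := by
    rw [QuotientGroup.mk_mul, (QuotientGroup.eq_one_iff c).mpr hc, one_mul]
  refine (QuotientGroup.eq_one_iff _).mp (orderOf_eq_one_iff.mp ?_)
  refine Nat.eq_one_of_dvd_coprimes ((Nat.coprime_two_right.mpr hx).pow_right j)
    (orderOf_map_dvd (QuotientGroup.mk' C) (c * s)) ?_
  change orderOf ((c * s : G) : G ⧸ C) ∣ 2 ^ j
  rw [h1]
  refine orderOf_dvd_of_pow_eq_one ?_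
  rw [← QuotientGroup.mk_pow]
  have hj' : s ^ 2 ^ j = 1 := congrArg Subtype.val hj
  rw [hj', QuotientGroup.mk_one]

/-- A normal subgroup containing every element of odd order does not normalize `W`. -/
theorem Setup.not_le_of_odd (hs : Setup S W) {C : Subgroup G} [C.Normal]
    (h : ∀ x : G, Odd (orderOf x) → x ∈ C) : ¬ C ≤ Subgroup.normalizer (W : Set G) := by
  have : Fact (Nat.Prime 2) := ⟨Nat.prime_two⟩
  intro hC
  refine hs.proper (top_le_iff.mp ?_)
  have hp : IsPGroup 2 (G ⧸ C) := by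
    intro q
    obtain ⟨x, rfl⟩ := QuotientGroup.mk'_surjective C q
    obtain ⟨a, b, -, -, hab, -, ⟨j, hj⟩, hb⟩ :=
      Lib.Transfer.PResidual.exists_pPart_mul_pPrimePart (p := 2) x (isOfFinOrder_of_finite x)
    refine ⟨j, ?_⟩
    rw [← hab, map_mul, show QuotientGroup.mk' C b = 1 from
      (QuotientGroup.eq_one_iff b).mpr (h b (Nat.coprime_two_right.mp hb)), mul_one, ← map_pow, hj,
      map_one]
  obtain ⟨k, hk⟩ := hp.exists_card_eq
  have h1 : (C ⊔ (S : Subgroup G)).index ∣ 2 ^ k := by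
    rw [← hk, ← Subgroup.index_eq_card]
    exact Subgroup.index_dvd_of_le le_sup_left
  have h2 : ¬ 2 ∣ (C ⊔ (S : Subgroup G)).index := fun h2 =>
    S.not_dvd_index (h2.trans (Subgroup.index_dvd_of_le le_sup_right))
  have h3 : (C ⊔ (S : Subgroup G)).index = 1 :=
    Nat.eq_one_of_dvd_coprimes (((Nat.Prime.coprime_iff_not_dvd Nat.prime_two).mpr h2).symm.pow_right k)
      dvd_rfl h1
  rw [← Subgroup.index_eq_one.mp h3]
  exact sup_le hC hs.norm

end Cfsg.Agent.Lib.SFourFree
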